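import Cfsg.Agent.H37.Chev.All
import Cfsg.Prelude.Def_ChevAutomorphisms

/-!
Kernel-checked facts about the Dynkin diagrams of the seven tabulated types, used for the
automorphism theorem: orders of products of two fundamental reflections against bond numbers, root
lengths along edges, the longest element on fundamental roots, the diagram symmetries.
-/
set_option autoImplicit false
set_option maxRecDepth 100000

namespace Cfsg.Agent.H56.ChevAut

open Cfsg.Lie Cfsg.Agent.H37

/-- The number of bonds of a pair with Coxeter exponent `m`. -/
def bondOf (m : ℕ) : ℤ := if m = 2 then 0 else if m = 3 then 1 else if m = 4 then 2 else 3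

/-- The longest element maps negatives of fundamental roots to fundamental roots. -/
def simpB (C : Weyl.Cert) (D : ChevalleyDatum) (n : ℕ) : Bool :=
  (List.range n).all fun i =>
    (List.range n).any fun j => C.act (Chev.longWord C n) (D.neg (D.simple i)) == D.simple j

/-- Orders of products of two fundamental reflections, and the bonds. -/
def ordB (C : Weyl.Cert) (D : ChevalleyDatum) {n : ℕ} (M : CoxeterMatrix (Fin n)) : Bool :=
  (List.range n).all fun i => (List.range n).all fun j => (i == j) ||
    ((bondOf (Weyl.Cert.mEntry M i j) == D.bonds i j) &&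
      (decide (Weyl.Cert.mEntry M i j ∈ [2, 3, 4, 6])) &&
      (List.range (Weyl.Cert.mEntry M i j)).all fun k => (k == 0) ||
        (List.range D.nroots).any fun r => !(C.iter i j k r == r))

/-- The edge from `i` to `j`, with `i` the longer root if the lengths differ. -/
def edgeB (D : ChevalleyDatum) (i j : ℕ) : Bool :=
  (D.cartan i (D.simple j) == -1) && (D.cartan j (D.simple i) == -(D.bonds i j)) &&
    (if D.bonds i j == 1 then D.isLong (D.simple i) == D.isLong (D.simple j)
      else D.isLong (D.simple i) && !D.isLong (D.simple j))

/-- Every pair of joined nodes is an edge in one of the two senses. -/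
def lenB (D : ChevalleyDatum) : Bool :=
  (List.range D.rank).all fun i => (List.range D.rank).all fun j => (i == j) ||
    (D.bonds i j == 0) || edgeB D i j || edgeB D j i

/-- A triple bond: a pair of commuting long roots whose short analogue has an odd commutator. -/
def sixAt (D : ChevalleyDatum) (i j : ℕ) : Bool :=
  let a := D.reflectRoot j (D.simple i)
  let b := D.reflectRoot i a
  let c := D.reflectRoot i (D.simple j)
  let d := D.reflectRoot j c
  decide (b ≠ a) && decide (b ≠ D.neg a) && decide (d ≠ c) && decide (d ≠ D.neg c) &&
    (D.commTerms a b).isEmpty &&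
    match D.commTerms c d with
    | [e] => decide (e.1 < D.nroots) && decide (e.2.1 % 2 ≠ 0)
    | _ => false

/-- The triple bonds. -/
def sixB (D : ChevalleyDatum) : Bool :=
  (List.range D.rank).all fun i => (List.range D.rank).all fun j => (i == j) ||
    !(D.bonds i j == 3) || !(edgeB D i j) || sixAt D i j

/-- Injective partial assignments preserving bonds. -/
def symsUpTo (D : ChevalleyDatum) : ℕ → List (List ℕ)
  | 0 => [[]]
  | k + 1 => (symsUpTo D k).flatMap fun l =>
      ((List.range D.rank).filter fun j => !(l.contains j) &&
        ((List.range k).all fun m => D.bonds (l.getD m 0) j == D.bonds m k)).map fun j => l ++ [j]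

/-- All facts. -/
def factsB {D : ChevalleyDatum} (X : Chev.TypeData D) : Bool :=
  simpB X.C D X.n && ordB X.C D X.M && lenB D && sixB D

theorem facts_G2 : factsB Chev.typeG2 = true := by decide +kernel
theorem facts_B2 : factsB Chev.typeB2 = true := by decide +kernel
theorem facts_D4 : factsB Chev.typeD4 = true := by decide +kernel
theorem facts_F4 : factsB Chev.typeF4 = true := by decide +kernel
theorem facts_E6 : factsB Chev.typeE6 = true := by decide +kernel
theorem facts_E7 : factsB Chev.typeE7 = true := by decide +kernel
theorem facts_E8 : factsB Chev.typeE8 = true := by decide +kernel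

/-- The data of a group together with the facts about its diagram. -/
structure Setup (D : ChevalleyDatum) (F : Type*) [Field F] where
  Q : Chev.Data D F
  facts : factsB Q.X = true
  supp : Chev.Sup Q.X.C D Q.X.n

theorem exists_setup {D : ChevalleyDatum}
    (hD : D ∈ [chevG2, chevB2, chevD4, chevF4, chevE6, chevE7, chevE8]) (F : Type*) [Field F] :
    Nonempty (Setup D F) := by
  simp only [List.mem_cons, List.not_mem_nil, or_false] at hD
  rcases hD with rfl | rfl | rfl | rfl | rfl | rfl | rfl
  · exact ⟨⟨Chev.dataG2 F, facts_G2, Chev.sup_of_check Chev.supB_G2⟩⟩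
  · exact ⟨⟨Chev.dataB2 F, facts_B2, Chev.sup_of_check Chev.supB_B2⟩⟩
  · exact ⟨⟨Chev.dataD4 F, facts_D4, Chev.sup_of_check Chev.supB_D4⟩⟩
  · exact ⟨⟨Chev.dataF4 F, facts_F4, Chev.sup_of_check Chev.supB_F4⟩⟩
  · exact ⟨⟨Chev.dataE6 F, facts_E6, Chev.sup_of_check Chev.supB_E6⟩⟩
  · exact ⟨⟨Chev.dataE7 F, facts_E7, Chev.sup_of_check Chev.supB_E7⟩⟩
  · exact ⟨⟨Chev.dataE8 F, facts_E8, Chev.sup_of_check Chev.supB_E8⟩⟩

theorem simple_lt_of_facts {D : ChevalleyDatum} {F : Type*} [Field F] (S : Setup D F) {i : ℕ}
    (hi : i < D.rank) : D.simple i < D.nroots :=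
  (S.Q.K.simple_lt i hi).1

/-- Every symmetry of the diagram is listed. -/
theorem mem_symsUpTo {D : ChevalleyDatum} {π : Equiv.Perm (Fin D.rank)}
    (hπ : D.IsDiagramSymmetry π) : ∀ k, k ≤ D.rank →
      ((List.range k).map fun m => if h : m < D.rank then (π ⟨m, h⟩).val else 0) ∈ symsUpTo D k := by
  intro k
  induction k with
  | zero => intro _; simp [symsUpTo]
  | succ k ih =>
    intro hk
    simp only [symsUpTo, List.mem_flatMap, List.mem_map, List.mem_filter, List.mem_range]
    refine ⟨_, ih (by omega), (π ⟨k, by omega⟩).val, ⟨(π ⟨k, by omega⟩).isLt, ?_⟩, ?_⟩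
    · simp only [Bool.and_eq_true, Bool.not_eq_true', List.all_eq_true, List.mem_range, beq_iff_eq]
      refine ⟨?_, fun m hm => ?_⟩
      · rw [List.contains_eq_mem, decide_eq_false_iff_not, List.mem_map]
        rintro ⟨m, hm, e⟩
        rw [List.mem_range] at hm
        rw [dif_pos (show m < D.rank by omega)] at e
        have := congrArg Fin.val (π.injective (Fin.ext e))
        simp only at this
        omega
      · rw [List.getD_eq_getElem _ _ (by simpa using hm)]
        simp only [List.getElem_map, List.getElem_range, dif_pos (show m < D.rank by omega)]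
        exact hπ ⟨m, by omega⟩ ⟨k, by omega⟩ (fun e => by simp [Fin.ext_iff] at e; omega)
    · rw [List.range_succ, List.map_append, List.map_singleton, dif_pos (show k < D.rank by omega)]

end Cfsg.Agent.H56.ChevAut
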