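import Cfsg.Agent.H56.ChevAut.Abstract
import Cfsg.Agent.H56.ChevAut.Facts

/-!
An automorphism of a Chevalley group stabilising `U` and its opposite permutes the fundamental root
subgroups and their negatives by a symmetry of the Dynkin diagram.
-/
set_option autoImplicit false

namespace Cfsg.Agent.H56.ChevAut

open Cfsg.Lie Cfsg.Agent.H37 Cfsg.Agent.H37.RootSys

theorem Opp.inv_eq {G W : Type*} [Group G] [Group W] {A : Tits.Ambient G W} {w₀ : W}
    (hop : Opp A w₀) : w₀⁻¹ = w₀ := by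
  refine hop.eq_w₀ _ fun u hu hu' => U_inter_V A hop hu ((mem_Vopp A).2 ?_)
  obtain ⟨k, hk, e⟩ := A.n_inv w₀
  have : (A.n w₀)⁻¹ * u * A.n w₀ = k * (A.n w₀⁻¹ * u * (A.n w₀⁻¹)⁻¹) * k⁻¹ := by
    conv_lhs => rw [show A.n w₀ = ((A.n w₀)⁻¹)⁻¹ from (inv_inv _).symm, e]
    group
  rw [this]
  exact A.H_conj_U k hk _ hu'

theorem Opp.swap {G W : Type*} [Group G] [Group W] {A : Tits.Ambient G W} {w₀ : W}
    (hop : Opp A w₀) {g : G} : A.n w₀ * g * (A.n w₀)⁻¹ ∈ A.U ↔ g ∈ Vopp A w₀ := by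
  obtain ⟨k, hk, e⟩ := A.n_inv w₀
  rw [hop.inv_eq] at e
  have h2 : A.n w₀ = k⁻¹ * (A.n w₀)⁻¹ := by rw [e]; group
  rw [mem_Vopp]
  have e3 : A.n w₀ * g * (A.n w₀)⁻¹ = k⁻¹ * ((A.n w₀)⁻¹ * g * A.n w₀) * k := by
    calc A.n w₀ * g * (A.n w₀)⁻¹ = (k⁻¹ * (A.n w₀)⁻¹) * g * (k⁻¹ * (A.n w₀)⁻¹)⁻¹ := by rw [← h2]
      _ = _ := by group
  rw [e3]
  constructor
  · intro h
    simpa [mul_assoc] using A.H_conj_U k hk _ h
  · intro h
    simpa using A.H_conj_U k⁻¹ (inv_mem hk) _ h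

theorem Opp.V_inter_B {G W : Type*} [Group G] [Group W] {A : Tits.Ambient G W} {w₀ : W}
    (hop : Opp A w₀) {v : G} (hv : v ∈ Vopp A w₀) (hb : v ∈ A.B) : v = 1 := by
  obtain ⟨a, ha, h, hh, rfl⟩ := hb
  rw [mem_Vopp] at hv
  have hk := A.n_conj_H' w₀ hh
  have ha1 : a = 1 := by
    refine U_inter_conj_B A hop ha ?_
    have : (A.n w₀)⁻¹ * a * A.n w₀
        = (A.n w₀)⁻¹ * (a * h) * A.n w₀ * ((A.n w₀)⁻¹ * h * A.n w₀)⁻¹ := by group
    rw [this]
    exact mul_mem (A.U_le_B hv) (inv_mem (A.H_le_B hk))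
  subst ha1
  rw [one_mul] at hv ⊢
  have h1 := (A.unique hv (one_mem _) (one_mem _) hk (one_mem (A.Uw 1)) (one_mem (A.Uw 1))
    (show (A.n w₀)⁻¹ * h * A.n w₀ * 1 * A.n 1 * 1 = 1 * ((A.n w₀)⁻¹ * h * A.n w₀) * A.n 1 * 1 by
      simp [A.n_one])).2.1
  calc h = A.n w₀ * ((A.n w₀)⁻¹ * h * A.n w₀) * (A.n w₀)⁻¹ := by group
    _ = 1 := by rw [h1]; group

namespace Setup

variable {D : ChevalleyDatum} {F : Type*} [Field F] (S : Setup D F)

/-- The positive fundamental root elements. -/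
def xs (i : Fin D.rank) (t : F) : ↥(D.group F) := xG S.Q.K F (D.simple i) t

/-- The negative fundamental root elements. -/
def ys (i : Fin D.rank) (t : F) : ↥(D.group F) := xG S.Q.K F (D.neg (D.simple i)) t

/-- The fundamental monomial elements. -/
def ns (i : Fin D.rank) : ↥(D.group F) := nG S.Q.K F i

/-- The fundamental reflections. -/
def sref (i : Fin D.rank) : S.Q.X.M.Group := S.Q.X.M.simple (Fin.cast S.Q.rank_eq i)

include S

theorem simple_lt (i : Fin D.rank) : D.simple i < D.nroots := (S.Q.K.simple_lt i i.isLt).1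

theorem simple_pos (i : Fin D.rank) : D.nroots / 2 ≤ D.simple i := (S.Q.K.simple_lt i i.isLt).2

theorem neg_simple_neg (i : Fin D.rank) : D.neg (D.simple i) < D.nroots / 2 := by
  have := S.Q.ord.even
  have := S.simple_pos i
  have := S.simple_lt i
  rw [S.Q.K.neg_eq _ (S.simple_lt i)]
  omega

theorem simple_inj {i j : Fin D.rank} (h : D.simple i = D.simple j) : i = j := by
  have h1 := S.Q.K.cf_simple i i.isLt i i.isLt
  rw [h, S.Q.K.cf_simple j j.isLt i i.isLt] at h1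
  by_contra hne
  have : ¬ (i : ℕ) = j := fun e => hne (Fin.ext e)
  simp [this] at h1

theorem sref_inj : Function.Injective S.sref := fun i j h =>
  S.simple_inj (S.Q.sys.simple_inj (i := Fin.cast S.Q.rank_eq i) (j := Fin.cast S.Q.rank_eq j) h)

theorem amb_S_eq : S.Q.amb.S = Set.range S.sref :=
  Set.ext fun w => ⟨fun ⟨i, hi⟩ => ⟨Fin.cast S.Q.rank_eq.symm i, hi⟩, fun ⟨i, hi⟩ => ⟨_, hi⟩⟩

theorem rep_sref (i : Fin D.rank) : S.Q.amb.n (S.sref i) = S.ns i :=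
  S.Q.rep_simple (Fin.cast S.Q.rank_eq i)

@[simp] theorem xs_add (i : Fin D.rank) (t u : F) : S.xs i t * S.xs i u = S.xs i (t + u) :=
  Subtype.ext (S.Q.K.xU_add F _ t u)

@[simp] theorem ys_add (i : Fin D.rank) (t u : F) : S.ys i t * S.ys i u = S.ys i (t + u) :=
  Subtype.ext (S.Q.K.xU_add F _ t u)

theorem xG_injective {r : ℕ} (hr : r < D.nroots) : Function.Injective (xG S.Q.K F r) := by
  intro t u h
  have h1 : xG S.Q.K F r (t - u) = 1 := by
    refine mul_right_cancel (b := xG S.Q.K F r u) ?_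
    refine Eq.trans ?_ (h.trans (one_mul _).symm)
    refine Subtype.ext ?_
    show S.Q.K.xU F r (t - u) * S.Q.K.xU F r u = S.Q.K.xU F r t
    rw [S.Q.K.xU_add, sub_add_cancel]
  exact sub_eq_zero.1 ((S.Q.K.xU_eq_one_iff F hr _).1 (congrArg Subtype.val h1))

theorem xs_injective (i : Fin D.rank) : Function.Injective (S.xs i) := S.xG_injective (S.simple_lt i)

theorem ys_injective (i : Fin D.rank) : Function.Injective (S.ys i) :=
  S.xG_injective (S.Q.K.neg_lt (S.simple_lt i))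

theorem xs_zero (i : Fin D.rank) : S.xs i 0 = 1 := Subtype.ext (S.Q.K.xU_zero F _)

theorem ys_zero (i : Fin D.rank) : S.ys i 0 = 1 := Subtype.ext (S.Q.K.xU_zero F _)

theorem xs_inv (i : Fin D.rank) (t : F) : (S.xs i t)⁻¹ = S.xs i (-t) :=
  Subtype.ext (S.Q.K.xU_inv F _ t)

theorem ys_inv (i : Fin D.rank) (t : F) : (S.ys i t)⁻¹ = S.ys i (-t) :=
  Subtype.ext (S.Q.K.xU_inv F _ t)

theorem xs_mem_U (i : Fin D.rank) (t : F) : S.xs i t ∈ S.Q.amb.U :=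
  S.Q.sys.x_mem_U (S.simple_lt i) (S.simple_pos i) t

theorem w0_pos {r : ℕ} (hr : r < D.nroots) (hn : r < D.nroots / 2) :
    D.nroots / 2 ≤ (S.Q.X.good.hom S.Q.X.w0 ⟨r, hr⟩).val := by
  have hev := S.Q.ord.even
  have h := S.Q.X.good.hom_neg S.Q.X.w0 ⟨r, hr⟩
  have h' := S.Q.X.w0_neg (show D.nroots - 1 - r < D.nroots by omega) (by omega)
  simp only at h
  omega

theorem opp : Opp S.Q.amb S.Q.X.w0 := by
  refine ⟨S.Q.Uw_w0, fun w hw => ?_⟩
  have hneg : ∀ r (hr : r < D.nroots), D.nroots / 2 ≤ r →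
      (S.Q.X.good.hom w ⟨r, hr⟩).val < D.nroots / 2 := by
    intro r hr hp
    by_contra hcon
    obtain ⟨t, e⟩ := S.Q.sys.rep_conj w r hr 1
    exact S.Q.sys.x_one_ne hr hp (hw _ (S.Q.sys.x_mem_U hr hp 1) (by
      show S.Q.sys.rep w * S.Q.sys.x r 1 * (S.Q.sys.rep w)⁻¹ ∈ _
      rw [e]; exact S.Q.sys.x_mem_U (Fin.isLt _) (by omega) t))
  have hflip : RootSys.Sys.flip S.Q.X.good (S.Q.X.w0⁻¹ * w) = ∅ := by
    refine Finset.eq_empty_iff_forall_notMem.2 fun r hr => ?_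
    obtain ⟨h1, h2, h3⟩ := Sys.mem_flip.1 hr
    rw [map_mul, Equiv.Perm.mul_apply] at h3
    set s := S.Q.X.good.hom S.Q.X.w0⁻¹ (S.Q.X.good.hom w ⟨r, h1⟩)
    have h4 := S.w0_pos s.isLt h3
    have h5 := hneg r h1 h2
    simp only [Fin.eta, s, map_inv, Equiv.Perm.inv_def, Equiv.apply_symm_apply] at h4
    omega
  have h0 : S.Q.X.good.inv (S.Q.X.w0⁻¹ * w) = 0 := by
    rw [← Sys.card_flip, hflip, Finset.card_empty]
  exact (inv_mul_eq_one.1 (S.Q.X.good.eq_one_of_inv_eq_zero h0)).symm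

/-- The opposite of `U`. -/
noncomputable def V : Subgroup ↥(D.group F) := Vopp S.Q.amb S.Q.X.w0

theorem xG_mem_V {r : ℕ} (hr : r < D.nroots) (hn : r < D.nroots / 2) (t : F) :
    xG S.Q.K F r t ∈ S.V := by
  rw [V, ← S.opp.swap]
  obtain ⟨t', e⟩ := S.Q.sys.rep_conj S.Q.X.w0 r hr t
  show S.Q.sys.rep S.Q.X.w0 * S.Q.sys.x r t * (S.Q.sys.rep S.Q.X.w0)⁻¹ ∈ _
  rw [e]
  exact S.Q.sys.x_mem_U (Fin.isLt _) (S.w0_pos hr hn) t'

theorem ys_mem_V (i : Fin D.rank) (t : F) : S.ys i t ∈ S.V :=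
  S.xG_mem_V (S.Q.K.neg_lt (S.simple_lt i)) (S.neg_simple_neg i) t

/-- `n x n⁻¹` on the fundamental pair. -/
theorem ns_conj_xs (i : Fin D.rank) (t : F) : ∃ t', S.ns i * S.xs i t * (S.ns i)⁻¹ = S.ys i t' := by
  refine ⟨(S.Q.K.sg i (D.simple i) : F) * t, Subtype.ext ?_⟩
  show S.Q.K.nS F i * S.Q.K.xU F (D.simple i) t * (S.Q.K.nS F i)⁻¹ = _
  rw [S.Q.K.nS_conj_xU F i.isLt (S.simple_lt i),
    ← sigma_eq_w S.Q.X.good S.Q.K (S.Q.rank_eq ▸ i.isLt) (S.simple_lt i),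
    neg_simple_eq S.Q.X.good S.Q.K (S.Q.rank_eq ▸ i.isLt)]
  rfl

theorem conj_H_ys {h : ↥(D.group F)} (hh : h ∈ S.Q.amb.H) (i : Fin D.rank) (t : F) :
    ∃ t', h * S.ys i t * h⁻¹ = S.ys i t' :=
  S.Q.sys.h_conj h hh _ (S.Q.K.neg_lt (S.simple_lt i)) t

theorem ns_sq (i : Fin D.rank) : S.ns i * S.ns i ∈ S.Q.amb.H :=
  S.Q.sys.sq i (S.Q.rank_eq ▸ i.isLt)

theorem sl2 (i : Fin D.rank) {t : F} (ht : t ≠ 0) :
    ∃ a b, ∃ h ∈ S.Q.amb.H, S.ys i t = S.xs i a * h * S.ns i * S.xs i b := by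
  have hi : (i : ℕ) < S.Q.X.n := S.Q.rank_eq ▸ i.isLt
  obtain ⟨a, b, h, hh, e⟩ := S.Q.sys.sl2 i hi t ht
  rw [neg_simple_eq S.Q.X.good S.Q.K hi] at e
  exact ⟨a, b, h, hh, e⟩

theorem ys_mem_min (i : Fin D.rank) (t : F) :
    S.ys i t ∈ S.Q.amb.B ∨ S.ys i t ∈ Cell S.Q.amb (S.sref i) := by
  by_cases ht : t = 0
  · subst ht; left; rw [S.ys_zero]; exact one_mem _
  · right
    obtain ⟨a, b, h, hh, e⟩ := S.sl2 i ht
    rw [e, ← S.rep_sref]
    exact mul_mem_Cell _ (mul_mem (S.Q.amb.U_le_B (S.xs_mem_U i a)) (S.Q.amb.H_le_B hh))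
      (n_mem_Cell _ _) (S.Q.amb.U_le_B (S.xs_mem_U i b))

theorem mem_Uw_sref (i : Fin D.rank) {v : ↥(D.group F)} (hv : v ∈ S.Q.amb.Uw (S.sref i)) :
    ∃ t, v = S.xs i t := by
  have hset : ∀ r ∈ RootSys.Sys.flip S.Q.X.good (S.sref i), r = D.simple i := by
    intro r hr
    obtain ⟨h1, h2, h3⟩ := Sys.mem_flip.1 hr
    rw [sref, S.Q.X.good.hom_simple, S.Q.X.good.sigmaPerm_val] at h3
    by_contra hne
    have := (S.Q.X.good.sigma_spec (S.Q.rank_eq ▸ i.isLt) h1).2.2.2.2 h2 hne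
    exact absurd h3 (Nat.not_lt.2 this)
  induction hv using Subgroup.closure_induction with
  | mem g hg =>
      obtain ⟨r, hr, t, rfl⟩ := hg
      exact ⟨t, by rw [hset r hr]; rfl⟩
  | one => exact ⟨0, (S.xs_zero i).symm⟩
  | mul a b _ _ ha hb =>
      obtain ⟨t, rfl⟩ := ha; obtain ⟨u, rfl⟩ := hb
      exact ⟨t + u, S.xs_add i t u⟩
  | inv a _ ha =>
      obtain ⟨t, rfl⟩ := ha
      exact ⟨-t, S.xs_inv i t⟩

/-- A rank one parabolic meets the opposite of `U` in the negative root subgroup. -/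
theorem V_inter_min (i : Fin D.rank) {v : ↥(D.group F)} (hv : v ∈ S.V)
    (h : v ∈ S.Q.amb.B ∨ v ∈ Cell S.Q.amb (S.sref i)) : ∃ t, v = S.ys i t := by
  set A := S.Q.amb
  rcases h with h | h
  · exact ⟨0, by rw [S.ys_zero, S.opp.V_inter_B hv h]⟩
  obtain ⟨u, hu, k, hk, w, x, hx, e⟩ := A.exists_eq v
  have hw : w = S.sref i := Cell_unique A (e ▸ (mem_Cell A).2
    ⟨u * k, ⟨u, hu, k, hk, rfl⟩, x, A.U_le_B (A.Uw_le w hx), rfl⟩) h
  subst hw
  obtain ⟨t, rfl⟩ := S.mem_Uw_sref i hx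
  rw [S.rep_sref] at e
  have hs : S.sref i ∈ A.S := by rw [S.amb_S_eq]; exact ⟨i, rfl⟩
  have ht : t ≠ 0 := by
    intro ht
    rw [ht, S.xs_zero, mul_one] at e
    have h1 : v * A.n S.Q.X.w0 ∈ Cell A S.Q.X.w0 := by
      have : v * A.n S.Q.X.w0
          = 1 * A.n S.Q.X.w0 * ((A.n S.Q.X.w0)⁻¹ * v * A.n S.Q.X.w0) := by group
      rw [this]
      exact mul_mem_Cell A (one_mem _) (n_mem_Cell A _) (A.U_le_B ((mem_Vopp A).1 hv))
    have h2 : v * A.n S.Q.X.w0 ∈ Cell A (S.sref i * S.Q.X.w0) := by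
      obtain ⟨k', hk', e'⟩ := A.n_mul (S.sref i) S.Q.X.w0
      rw [e, ← S.rep_sref, mul_assoc, e', show u * k * (k' * A.n (S.sref i * S.Q.X.w0))
        = u * k * k' * A.n (S.sref i * S.Q.X.w0) * 1 by group]
      exact mul_mem_Cell A (mul_mem (mul_mem (A.U_le_B hu) (A.H_le_B hk)) (A.H_le_B hk'))
        (n_mem_Cell A _) (one_mem _)
    exact S_ne_one A hs (right_eq_mul.1 (Cell_unique A h1 h2))
  obtain ⟨c, ec⟩ := S.ns_conj_xs i t
  have hc : c ≠ 0 := by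
    intro hc
    rw [hc, S.ys_zero] at ec
    exact ht (S.xs_injective i ((conj_eq_one_iff.1 ec).trans (S.xs_zero i).symm))
  obtain ⟨a, b, k', hk', e'⟩ := S.sl2 i hc
  obtain ⟨d, ed⟩ := S.ns_conj_xs i b
  obtain ⟨d', ed'⟩ := S.conj_H_ys (inv_mem (S.ns_sq i)) i d
  have e2 : v = u * k * (S.xs i a * k' * (S.ns i * S.ns i)) * S.ys i d' := by
    calc v = u * k * ((S.ns i * S.xs i t * (S.ns i)⁻¹) * S.ns i) := by rw [e]; group
      _ = u * k * (S.xs i a * k' * ((S.ns i * S.xs i b * (S.ns i)⁻¹) * (S.ns i * S.ns i))) := by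
          rw [ec, e']; simp only [mul_assoc, inv_mul_cancel_left]
      _ = u * k * (S.xs i a * k' * (S.ns i * S.ns i)) *
            ((S.ns i * S.ns i)⁻¹ * S.ys i d * (S.ns i * S.ns i)⁻¹⁻¹) := by
          rw [ed, inv_inv]
          simp only [mul_inv_rev, mul_assoc, mul_inv_cancel_left]
      _ = _ := by rw [ed']
  have hb' : v * (S.ys i d')⁻¹ ∈ A.B := by
    rw [e2, mul_inv_cancel_right]
    exact mul_mem (mul_mem (A.U_le_B hu) (A.H_le_B hk)) (mul_mem (mul_mem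
      (A.U_le_B (S.xs_mem_U i a)) (A.H_le_B hk')) (A.H_le_B (S.ns_sq i)))
  exact ⟨d', mul_inv_eq_one.1 (S.opp.V_inter_B (mul_mem hv (inv_mem (S.ys_mem_V i d'))) hb')⟩

theorem xs_comm_ys {i j : Fin D.rank} (hij : i ≠ j) (t u : F) :
    S.xs i t * S.ys j u = S.ys j u * S.xs i t := by
  have hi := S.simple_lt i
  have hj := S.Q.K.neg_lt (S.simple_lt j)
  have hne : D.neg (D.simple j) ≠ D.simple i := by
    have := S.simple_pos i; have := S.neg_simple_neg j; omega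
  have hne' : D.neg (D.simple j) ≠ D.neg (D.simple i) := fun e => hij (S.simple_inj (by
    rw [← S.Q.K.neg_neg (S.simple_lt i), ← S.Q.K.neg_neg (S.simple_lt j), e]))
  have hnil : D.commTerms (D.simple i) (D.neg (D.simple j)) = [] := by
    rw [List.eq_nil_iff_forall_not_mem]
    intro c hc
    obtain ⟨⟨h1, ha, hb⟩, hcf⟩ := S.Q.K.commTerms_cf hc
    have hii : S.Q.K.cf c.1 i = c.2.2.1 := by
      rw [hcf i i.isLt, S.Q.K.cf_simple i i.isLt i i.isLt, S.Q.K.cf_neg _ (S.simple_lt j) i i.isLt,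
        S.Q.K.cf_simple j j.isLt i i.isLt, if_pos rfl, if_neg (fun e => hij (Fin.ext e))]
      ring
    have hjj : S.Q.K.cf c.1 j = -(c.2.2.2 : ℤ) := by
      rw [hcf j j.isLt, S.Q.K.cf_simple i i.isLt j j.isLt, S.Q.K.cf_neg _ (S.simple_lt j) j j.isLt,
        S.Q.K.cf_simple j j.isLt j j.isLt, if_pos rfl,
        if_neg (fun e => hij (Fin.ext e).symm)]
      ring
    have hev := S.Q.ord.even
    rcases Nat.lt_or_ge c.1 (D.nroots / 2) with h | h
    · have h3 := S.Q.K.cf_nonneg (D.neg c.1) (S.Q.K.neg_lt h1)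
        (by rw [S.Q.K.neg_eq _ h1]; omega) i i.isLt
      rw [S.Q.K.cf_neg _ h1 i i.isLt, hii] at h3
      omega
    · have h3 := S.Q.K.cf_nonneg c.1 h1 h j j.isLt
      rw [hjj] at h3
      omega
  refine Subtype.ext ?_
  show S.Q.K.xU F (D.simple i) t * S.Q.K.xU F (D.neg (D.simple j)) u = _
  have := S.Q.K.xU_comm F hi hj hne hne' t u
  rw [ChevalleyDatum.commWord, hnil, List.map_nil, S.Q.K.wU_nil, mul_one] at this
  exact this.symm

theorem xs_not_comm_ys (i : Fin D.rank) :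
    S.xs i 1 * S.ys i 1 ≠ S.ys i 1 * S.xs i 1 := by
  intro h
  have hn : S.ns i = S.xs i 1 * S.ys i (-1) * S.xs i 1 := by
    refine Subtype.ext ?_
    show S.Q.K.nS F i = _
    rw [Chevalley.Cert.nS, S.Q.K.nU_eq, inv_one]
    rfl
  have hc : Commute (S.xs i 1) (S.ys i (-1)) := by
    rw [← S.ys_inv]
    exact (Commute.inv_right h)
  have hcn : Commute (S.ns i) (S.xs i 1) := by
    rw [hn]
    exact ((Commute.refl _).mul_left hc.symm).mul_left (Commute.refl _)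
  obtain ⟨t, ht⟩ := S.ns_conj_xs i 1
  rw [hcn.eq, mul_inv_cancel_right] at ht
  exact one_ne_zero (S.xs_injective i ((U_inter_V S.Q.amb S.opp (S.xs_mem_U i 1)
    (ht ▸ S.ys_mem_V i t)).trans (S.xs_zero i).symm))

theorem simp_spec (i : Fin D.rank) : ∃ j : Fin D.rank,
    (S.Q.X.good.hom S.Q.X.w0 ⟨D.neg (D.simple i), S.Q.K.neg_lt (S.simple_lt i)⟩).val = D.simple j := by
  have h := S.facts
  simp only [factsB, simpB, Bool.and_eq_true, List.all_eq_true, List.any_eq_true, List.mem_range,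
    beq_iff_eq] at h
  obtain ⟨j, hj, e⟩ := h.1.1.1 i (S.Q.rank_eq ▸ i.isLt)
  refine ⟨⟨j, S.Q.rank_eq.symm ▸ hj⟩, ?_⟩
  have h2 := S.Q.X.extra
  simp only [Chev.extraB, Bool.and_eq_true, List.all_eq_true, decide_eq_true_eq] at h2
  rw [Chev.TypeData.w0, S.Q.X.good.hom_wOf_val h2.1.1.2]
  exact e

theorem bonds_of_orders {i j k l : Fin D.rank} (hij : i ≠ j) (hkl : k ≠ l)
    (h : ∀ m, (S.sref i * S.sref j) ^ m = 1 ↔ (S.sref k * S.sref l) ^ m = 1) :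
    D.bonds k l = D.bonds i j := by
  have hf := S.facts
  simp only [factsB, ordB, Bool.and_eq_true, List.all_eq_true, List.any_eq_true, List.mem_range,
    Bool.or_eq_true, beq_iff_eq, decide_eq_true_eq, Bool.not_eq_true', beq_eq_false_iff_ne] at hf
  have hn := S.Q.rank_eq
  have spec : ∀ {a b : Fin D.rank}, a ≠ b → ∃ m, 0 < m ∧ D.bonds a b = bondOf m ∧
      (S.sref a * S.sref b) ^ m = 1 ∧ ∀ e, 0 < e → e < m → (S.sref a * S.sref b) ^ e ≠ 1 := by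
    intro a b hab
    have ha : (a : ℕ) < S.Q.X.n := hn ▸ a.isLt
    have hb : (b : ℕ) < S.Q.X.n := hn ▸ b.isLt
    rcases hf.1.1.2 a ha b hb with h1 | ⟨⟨h1, h2⟩, h3⟩
    · exact absurd (Fin.ext h1) hab
    have hM : Weyl.Cert.mEntry S.Q.X.M a b = S.Q.X.M ⟨a, ha⟩ ⟨b, hb⟩ := by
      rw [Weyl.Cert.mEntry, dif_pos ⟨ha, hb⟩]
    refine ⟨_, ?_, h1.symm, ?_, fun e he hem hpow => ?_⟩
    · simp only [List.mem_cons, List.not_mem_nil, or_false] at h2; omega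
    · rw [hM]
      exact S.Q.X.M.toCoxeterSystem.simple_mul_simple_pow ⟨a, ha⟩ ⟨b, hb⟩
    · rcases h3 e hem with h4 | ⟨r, hr, hne⟩
      · omega
      · refine hne ?_
        have key : ∀ e, (S.Q.X.good.hom ((S.sref a * S.sref b) ^ e) ⟨r, hr⟩).val
            = S.Q.X.C.iter a b e r := by
          intro e
          induction e with
          | zero => simp [Weyl.Cert.iter]
          | succ e ih =>
            rw [pow_succ', map_mul, map_mul, Equiv.Perm.mul_apply, Equiv.Perm.mul_apply, sref,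
              sref, S.Q.X.good.hom_simple, S.Q.X.good.hom_simple, S.Q.X.good.sigmaPerm_val,
              S.Q.X.good.sigmaPerm_val]
            show S.Q.X.C.sigma a (S.Q.X.C.sigma b _) = _
            rw [show (S.Q.X.good.hom ((S.Q.X.M.simple (Fin.cast hn a) *
              S.Q.X.M.simple (Fin.cast hn b)) ^ e) ⟨r, hr⟩).val = _ from ih]
            rfl
        rw [← key e, hpow]
        simp
  obtain ⟨m, hm0, hbm, hm1, hmin⟩ := spec hij
  obtain ⟨m', hm0', hbm', hm1', hmin'⟩ := spec hkl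
  have : m = m' := by
    rcases Nat.lt_trichotomy m m' with hlt | heq | hgt
    · exact absurd ((h m).1 hm1) (hmin' m hm0 hlt)
    · exact heq
    · exact absurd ((h m').2 hm1') (hmin m' hm0' hgt)
  rw [hbm, hbm', this]

/-- An automorphism stabilising `U` and its opposite permutes the fundamental root subgroups and
their negatives by a symmetry of the diagram. -/
theorem exists_symmetry {θ : ↥(D.group F) ≃* ↥(D.group F)} (hU : Fix θ S.Q.amb.U)
    (hV : Fix θ S.V) :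
    ∃ σ : Equiv.Perm (Fin D.rank), D.IsDiagramSymmetry σ ∧
      (∀ i, piFun S.Q.amb θ (S.sref i) = S.sref (σ i)) ∧
      ∀ i t, (∃ a, θ (S.xs i t) = S.xs (σ i) a) ∧ ∃ b, θ (S.ys i t) = S.ys (σ i) b := by
  set A := S.Q.amb
  have hB := fix_B A hU
  have hex : ∀ i, ∃ j, piFun A θ (S.sref i) = S.sref j := by
    intro i
    have hi : S.sref i ∈ A.S := by rw [S.amb_S_eq]; exact ⟨i, rfl⟩
    obtain ⟨j, hj⟩ := S.amb_S_eq ▸ pi_mem_S A hB hi
    exact ⟨j, hj.symm⟩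
  choose f hf using hex
  have hfinj : Function.Injective f := fun i j h => S.sref_inj (pi_injective A hB (by rw [hf, hf, h]))
  set σ : Equiv.Perm (Fin D.rank) := Equiv.ofBijective f (Finite.injective_iff_bijective.1 hfinj)
  have hσ : ∀ i, piFun A θ (S.sref i) = S.sref (σ i) := hf
  have hys : ∀ i t, ∃ b, θ (S.ys i t) = S.ys (σ i) b := by
    intro i t
    refine S.V_inter_min (σ i) ((hV _).2 (S.ys_mem_V i t)) ?_
    rw [hB, ← hσ, cell_iff A hB]
    exact S.ys_mem_min i t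
  -- the longest element turns the negatives into the positives
  choose τ hτ using S.simp_spec
  have hτinj : Function.Injective τ := by
    intro i j h
    have := (S.Q.X.good.hom S.Q.X.w0).injective
      (Fin.ext ((hτ i).trans ((congrArg (fun x : Fin D.rank => D.simple x) h).trans (hτ j).symm)))
    have h2 : D.neg (D.simple i) = D.neg (D.simple j) := congrArg Fin.val this
    exact S.simple_inj (by
      rw [← S.Q.K.neg_neg (S.simple_lt i), ← S.Q.K.neg_neg (S.simple_lt j), h2])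
  set n0 := A.n S.Q.X.w0
  have hconj : ∀ j t, ∃ t', n0 * S.ys j t * n0⁻¹ = S.xs (τ j) t' := by
    intro j t
    obtain ⟨t', e⟩ := S.Q.sys.rep_conj S.Q.X.w0 _ (S.Q.K.neg_lt (S.simple_lt j)) t
    exact ⟨t', by rw [hτ j] at e; exact e⟩
  have hexs : ∀ j t, ∃ s, S.xs (τ j) t = n0 * S.ys j s * n0⁻¹ := by
    intro j t
    obtain ⟨k, hk, e⟩ := A.n_inv S.Q.X.w0
    rw [S.opp.inv_eq] at e
    have hr := S.simple_lt (τ j)
    obtain ⟨s, es⟩ := S.Q.sys.rep_conj S.Q.X.w0⁻¹ _ hr t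
    have hval : (S.Q.X.good.hom S.Q.X.w0⁻¹ ⟨D.simple (τ j), hr⟩).val = D.neg (D.simple j) := by
      have : (⟨D.simple (τ j), hr⟩ : Fin D.nroots) = S.Q.X.good.hom S.Q.X.w0
          ⟨D.neg (D.simple j), S.Q.K.neg_lt (S.simple_lt j)⟩ := Fin.ext (hτ j).symm
      rw [this, map_inv, Equiv.Perm.inv_def, Equiv.symm_apply_apply]
    rw [hval, S.opp.inv_eq] at es
    change n0 * S.xs (τ j) t * n0⁻¹ = S.ys j s at es
    obtain ⟨s', es'⟩ := S.conj_H_ys hk j s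
    refine ⟨s', ?_⟩
    calc S.xs (τ j) t = n0 * (n0⁻¹ * S.xs (τ j) t * n0⁻¹⁻¹) * n0⁻¹ := by group
      _ = n0 * (k * n0 * S.xs (τ j) t * (k * n0)⁻¹) * n0⁻¹ := by rw [e]
      _ = n0 * (k * (n0 * S.xs (τ j) t * n0⁻¹) * k⁻¹) * n0⁻¹ := by group
      _ = _ := by rw [es, es']
  have heH : n0⁻¹ * θ n0 ∈ A.H := by
    have hswap : ∀ y, n0 * y * n0⁻¹ ∈ A.U ↔ y ∈ S.V := fun y => S.opp.swap
    have hVU : ∀ y, n0 * y * n0⁻¹ ∈ S.V ↔ y ∈ A.U := fun y => by
      rw [V, mem_Vopp, show (A.n S.Q.X.w0)⁻¹ * (n0 * y * n0⁻¹) * A.n S.Q.X.w0 = y by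
        simp only [n0]; group]
    refine mem_H_of_fix A S.opp (fun y => ?_) (fun y => ?_) <;>
      obtain ⟨z, rfl⟩ := θ.surjective y
    · rw [← hVU, MulAut.conj_apply, show n0 * (n0⁻¹ * θ n0 * θ z * (n0⁻¹ * θ n0)⁻¹) * n0⁻¹
        = θ n0 * θ z * (θ n0)⁻¹ by group, ← map_inv, ← map_mul, ← map_mul, hV, hVU, hU]
    · change _ ↔ θ z ∈ S.V
      show (n0⁻¹ * θ n0) * θ z * (n0⁻¹ * θ n0)⁻¹ ∈ S.V ↔ θ z ∈ S.V
      rw [← hswap, show n0 * (n0⁻¹ * θ n0 * θ z * (n0⁻¹ * θ n0)⁻¹) * n0⁻¹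
        = θ n0 * θ z * (θ n0)⁻¹ by group, ← map_inv, ← map_mul, ← map_mul, hU, hswap, hV]
  have hxs' : ∀ j t, ∃ a, θ (S.xs (τ j) t) = S.xs (τ (σ j)) a := by
    intro j t
    obtain ⟨s, es⟩ := hexs j t
    obtain ⟨b, eb⟩ := hys j s
    obtain ⟨b', eb'⟩ := S.conj_H_ys heH (σ j) b
    obtain ⟨a, ea⟩ := hconj (σ j) b'
    refine ⟨a, ?_⟩
    rw [es, map_mul, map_mul, map_inv, eb, ← ea, ← eb']
    group
  have hτσ : ∀ j, τ (σ j) = σ (τ j) := by
    intro j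
    by_contra hne
    obtain ⟨a, ea⟩ := hxs' j 1
    obtain ⟨b, eb⟩ := hys (τ j) 1
    refine S.xs_not_comm_ys (τ j) (θ.injective ?_)
    rw [map_mul, map_mul, ea, eb]
    exact S.xs_comm_ys hne a b
  refine ⟨σ, fun i j hij => ?_, hσ, fun i t => ⟨?_, hys i t⟩⟩
  · refine S.bonds_of_orders hij (fun e => hij (σ.injective e)) fun m => ?_
    rw [← hσ i, ← hσ j, ← pi_mul A hB]
    have : (piFun A θ (S.sref i * S.sref j)) ^ m = piFun A θ ((S.sref i * S.sref j) ^ m) :=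
      (map_pow (piHom A hB) _ m).symm
    rw [this]
    exact ⟨fun h => by rw [h, pi_one A hB],
      fun h => pi_injective A hB (h.trans (pi_one A hB).symm)⟩
  · obtain ⟨j, rfl⟩ := (Finite.injective_iff_surjective.1 hτinj) i
    rw [← hτσ]
    exact hxs' j t

end Setup

end Cfsg.Agent.H56.ChevAut
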