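import Cfsg.Agent.H56.ChevAut.Graph
import Cfsg.Agent.H37.Chev.Order

/-!
The order and structure of the outer automorphism groups of the tabulated types.
-/
set_option autoImplicit false
set_option maxRecDepth 100000

namespace Cfsg.Agent.H56.ChevAut

open Cfsg.Lie Cfsg.Agent.H37
open scoped commutatorElement

/-- The transposition of the outer nodes of D₄. -/
def piD4c : Equiv.Perm (Fin 4) := Equiv.swap 0 2

/-- The triality of D₄. -/
def piD4a : Equiv.Perm (Fin 4) where
  toFun := ![2, 1, 3, 0]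
  invFun := ![3, 1, 0, 2]
  left_inv i := by revert i; decide
  right_inv i := by revert i; decide

/-- The symmetry of E₆. -/
def piE6 : Equiv.Perm (Fin 6) := Equiv.swap 0 5 * Equiv.swap 2 4

theorem rootMap_D4a : rootMapB chevD4 Sym.dataD4a.p piD4a = true := by decide +kernel
theorem rootMap_D4c : rootMapB chevD4 dataD4c.p piD4c = true := by decide +kernel
theorem rootMap_E6 : rootMapB chevE6 Sym.dataE6.p piE6 = true := by decide +kernel
theorem rootMap_G2 :
    rootMapB chevG2 Isog.dataG2.rh (Equiv.swap (0 : Fin 2) 1 : Equiv.Perm (Fin 2)) = true := by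
  decide +kernel
theorem rootMap_F4 : rootMapB chevF4 Isog.dataF4.rh
    (Equiv.swap (0 : Fin 4) 3 * Equiv.swap 1 2 : Equiv.Perm (Fin 4)) = true := by decide +kernel

theorem syms_G2 : (symsUpTo chevG2 2).length ≤ 2 := by decide +kernel
theorem syms_B2 : (symsUpTo chevB2 2).length ≤ 2 := by decide +kernel
theorem syms_D4 : (symsUpTo chevD4 4).length ≤ 6 := by decide +kernel
theorem syms_F4 : (symsUpTo chevF4 4).length ≤ 2 := by decide +kernel
theorem syms_E6 : (symsUpTo chevE6 6).length ≤ 2 := by decide +kernel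
/-- The recursion of `symsUpTo`, for a table of bonds. -/
def symsW (n : ℕ) (b : ℕ → ℕ → ℤ) : ℕ → List (List ℕ)
  | 0 => [[]]
  | k + 1 => (symsW n b k).flatMap fun l =>
      ((List.range n).filter fun j => !(l.contains j) &&
        ((List.range k).all fun m => b (l.getD m 0) j == b m k)).map fun j => l ++ [j]

/-- The bonds agree with a table. -/
def bondsB (D : ChevalleyDatum) (tab : List (List ℤ)) : Bool :=
  (List.range D.rank).all fun i => (List.range D.rank).all fun j =>
    D.bonds i j == (tab.getD i []).getD j 0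

theorem symsUpTo_eq_W {D : ChevalleyDatum} {tab : List (List ℤ)} (h : bondsB D tab = true) :
    ∀ k ≤ D.rank,
      symsUpTo D k = symsW D.rank (fun i j => (tab.getD i []).getD j 0) k ∧
        ∀ l ∈ symsUpTo D k, ∀ x ∈ l, x < D.rank := by
  have hb : ∀ i < D.rank, ∀ j < D.rank, D.bonds i j = (tab.getD i []).getD j 0 := fun i hi j hj =>
    eq_of_beq (List.all_eq_true.1 (List.all_eq_true.1 h i (List.mem_range.2 hi)) j
      (List.mem_range.2 hj))
  intro k
  induction k with
  | zero =>
    intro _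
    exact ⟨rfl, by simp [symsUpTo]⟩
  | succ k ih =>
    intro hk
    obtain ⟨he, hl⟩ := ih (by omega)
    refine ⟨?_, ?_⟩
    · simp only [symsUpTo, symsW, ← he]
      refine congrArg List.flatten (List.map_congr_left fun l hlm => ?_)
      refine congrArg (List.map fun j => l ++ [j]) (List.filter_congr fun j hj => ?_)
      refine congrArg _ (Bool.eq_iff_iff.2 ?_)
      simp only [List.all_eq_true]
      refine forall₂_congr fun m hm => ?_
      rw [List.mem_range] at hj hm
      have hg : l.getD m 0 < D.rank := by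
        by_cases hml : m < l.length
        · rw [List.getD_eq_getElem _ _ hml]; exact hl l hlm _ (List.getElem_mem hml)
        · rw [List.getD_eq_default _ _ (by omega)]; omega
      rw [hb _ hg _ hj, hb m (by omega) k (by omega)]
    · intro l hlm x hx
      simp only [symsUpTo, List.mem_flatMap, List.mem_map, List.mem_filter, List.mem_range] at hlm
      obtain ⟨l', hl', j, ⟨hj, -⟩, rfl⟩ := hlm
      rcases List.mem_append.1 hx with hx | hx
      · exact hl l' hl' x hx
      · rw [List.mem_singleton.1 hx]; exact hj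

/-- The bonds of E₇. -/
def tabE7 : List (List ℤ) := [[4, 0, 1, 0, 0, 0, 0], [0, 4, 0, 1, 0, 0, 0], [1, 0, 4, 1, 0, 0, 0],
  [0, 1, 1, 4, 1, 0, 0], [0, 0, 0, 1, 4, 1, 0], [0, 0, 0, 0, 1, 4, 1], [0, 0, 0, 0, 0, 1, 4]]

/-- The bonds of E₈. -/
def tabE8 : List (List ℤ) := [[4, 0, 1, 0, 0, 0, 0, 0], [0, 4, 0, 1, 0, 0, 0, 0],
  [1, 0, 4, 1, 0, 0, 0, 0], [0, 1, 1, 4, 1, 0, 0, 0], [0, 0, 0, 1, 4, 1, 0, 0],
  [0, 0, 0, 0, 1, 4, 1, 0], [0, 0, 0, 0, 0, 1, 4, 1], [0, 0, 0, 0, 0, 0, 1, 4]]

theorem bonds_E7 : bondsB chevE7 tabE7 = true := by decide +kernel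

theorem bonds_E8 : bondsB chevE8 tabE8 = true := by decide +kernel

theorem symsW_E7 : (symsW 7 (fun i j => (tabE7.getD i []).getD j 0) 7).length ≤ 1 := by
  decide +kernel

theorem symsW_E8 : (symsW 8 (fun i j => (tabE8.getD i []).getD j 0) 8).length ≤ 1 := by
  decide +kernel

theorem syms_E7 : (symsUpTo chevE7 7).length ≤ 1 := by
  rw [(symsUpTo_eq_W bonds_E7 7 le_rfl).1]; exact symsW_E7

theorem syms_E8 : (symsUpTo chevE8 8).length ≤ 1 := by
  rw [(symsUpTo_eq_W bonds_E8 8 le_rfl).1]; exact symsW_E8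

theorem syms_G2' : (symsUpTo chevG2 2).all (fun l => l == [0, 1] || l == [1, 0]) = true := by
  decide +kernel
theorem syms_F4' :
    (symsUpTo chevF4 4).all (fun l => l == [0, 1, 2, 3] || l == [3, 2, 1, 0]) = true := by
  decide +kernel

theorem g2_edge : ((edgeB chevG2 0 1 || edgeB chevG2 1 0) && (chevG2.bonds 0 1 == 3) &&
    (chevG2.bonds 1 0 == 3)) = true := by decide +kernel
theorem f4_edge : ((edgeB chevF4 1 2 || edgeB chevF4 2 1) && (chevF4.bonds 1 2 == 2) &&
    (chevF4.bonds 2 1 == 2)) = true := by decide +kernel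

variable {F : Type*} [Field F]

theorem ringChar_eq {p : ℕ} [CharP F p] : ringChar F = p := ringChar.eq F p

theorem card_ringAut [Fintype F] {p f : ℕ} [Fact p.Prime] (hf : 1 ≤ f)
    (hF : Fintype.card F = p ^ f) : Nat.card (RingAut F) = f := by
  obtain ⟨e⟩ := H56.ringAut_equiv F hf hF
  rw [Nat.card_congr e.toEquiv, Nat.card_congr Multiplicative.toAdd, Nat.card_zmod]

theorem exp_pos [Fintype F] {p f : ℕ} (hF : Fintype.card F = p ^ f) : 1 ≤ f := by
  by_contra h
  rw [show f = 0 by omega, pow_zero] at hF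
  have := Fintype.one_lt_card (α := F)
  omega

/-- The count from the size of the image and the order of `H`. -/
theorem card_out_eq [Fintype F] {D : ChevalleyDatum} (S : Setup D F) {p f d N : ℕ}
    [Fact p.Prime] (hF : Fintype.card F = p ^ f)
    (hH : d * Nat.card (D.diagonalSubgroup F) = (Nat.card F - 1) ^ D.rank)
    (hN : Nat.card S.symOut.range = N) :
    Nat.card (Cfsg.Out ↥(D.group F)) = N * d * f := by
  have h1 := S.card_diagOut
  rw [← hH] at h1
  rw [S.card_out, hN, card_ringAut (exp_pos hF) hF,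
    Nat.eq_of_mul_eq_mul_right Nat.card_pos h1, mul_assoc]

theorem card_E7 [Fintype F] {p f : ℕ} [Fact p.Prime] (hF : Fintype.card F = p ^ f) :
    Nat.card (Cfsg.Out ↥(chevE7.group F)) = Nat.gcd 2 (p ^ f - 1) * f := by
  obtain ⟨S⟩ := exists_setup (D := chevE7) (by simp) F
  rw [card_out_eq S hF (Chev.diag_E7 F) (S.card_range_eq_one syms_E7), one_mul,
    Nat.card_eq_fintype_card, hF]

theorem card_E8 [Fintype F] {p f : ℕ} [Fact p.Prime] (hF : Fintype.card F = p ^ f) :
    Nat.card (Cfsg.Out ↥(chevE8.group F)) = f := by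
  obtain ⟨S⟩ := exists_setup (D := chevE8) (by simp) F
  rw [card_out_eq S hF (Chev.diag_E8 F) (S.card_range_eq_one syms_E8), one_mul, one_mul]

theorem card_E6 [Fintype F] {p f : ℕ} [Fact p.Prime] (hF : Fintype.card F = p ^ f) :
    Nat.card (Cfsg.Out ↥(chevE6.group F)) = 2 * Nat.gcd 3 (p ^ f - 1) * f := by
  obtain ⟨S⟩ := exists_setup (D := chevE6) (by simp) F
  rw [card_out_eq S hF (Chev.diag_E6 F) (S.card_range_eq_two syms_E6 (π := piE6)
    (S.mem_range_of_sym Sym.goodE6 piE6 rootMap_E6) (by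
      intro h; exact absurd (congrArg (fun g : Equiv.Perm (Fin 6) => g 0) h) (by decide))),
    Nat.card_eq_fintype_card, hF]

theorem simple_G2 [Fintype F] (hq : 3 ≤ Fintype.card F) :
    IsSimpleGroup ↥(chevG2.group F) := by
  refine ((Chev.dataG2 F).simple (Chev.perfect (by simp) fun _ => ?_)).1
  classical
  obtain ⟨a, -, ha⟩ := Finset.exists_mem_notMem_of_card_lt_card
    (s := ({0, 1} : Finset F)) (t := Finset.univ) (by
      rw [Finset.card_univ]; exact lt_of_le_of_lt (Finset.card_le_two) (by omega))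
  exact ⟨a, fun e => ha (by simp [e]), fun e => ha (by simp [e])⟩

theorem card_G2 [Fintype F] {p f : ℕ} [Fact p.Prime] [CharP F p] (hF : Fintype.card F = p ^ f)
    (hq : 3 ≤ p ^ f) :
    Nat.card (Cfsg.Out ↥(chevG2.group F)) = (if p = 3 then 2 * f else f) := by
  obtain ⟨S⟩ := exists_setup (D := chevG2) (by simp) F
  split_ifs with h3
  · subst h3
    haveI := simple_G2 (F := F) (hF ▸ hq)
    haveI : CharP F Isog.dataG2.p := ‹CharP F 3›
    haveI : Fact Isog.dataG2.p.Prime := ⟨Nat.prime_three⟩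
    rw [card_out_eq S hF (Chev.diag_G2 F) (S.card_range_eq_two syms_G2
      (π := (Equiv.swap (0 : Fin 2) 1 : Equiv.Perm (Fin 2)))
      (S.mem_range_of_isog Isog.goodG2 _ rootMap_G2 7 (by decide +kernel)
        ⟨4, by decide +kernel⟩ ⟨3, by decide +kernel⟩ (by decide +kernel) (by decide +kernel))
      (by intro h; exact absurd (congrArg (fun g : Equiv.Perm (Fin 2) => g 0) h) (by decide))),
      mul_one]
  · have hsyms : ∀ π : Equiv.Perm (Fin 2), chevG2.IsDiagramSymmetry π →
        π = 1 ∨ π 0 = 1 ∧ π 1 = 0 := by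
      intro π hπ
      have h := List.all_eq_true.1 syms_G2' _ (mem_symsUpTo hπ 2 le_rfl)
      revert h
      clear hπ
      revert π
      decide +kernel
    have he := g2_edge
    simp only [Bool.and_eq_true, Bool.or_eq_true, beq_iff_eq] at he
    obtain ⟨⟨he, hb⟩, hb'⟩ := he
    have hp : (ringChar F : ℤ) ≠ 3 := by
      rw [ringChar_eq (p := p)]; exact_mod_cast h3
    have h1 : Nat.card S.symOut.range = 1 := by
      rcases he with he | he
      · exact S.card_range_eq_one_of_char ⟨0, by decide +kernel⟩ ⟨1, by decide +kernel⟩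
          (by intro h; exact absurd (congrArg Fin.val h) (by simp)) he (by simp [hb]) (by simp [hb])
          (fun π hπ => (hsyms π hπ)) (by simpa [hb] using hp)
      · exact S.card_range_eq_one_of_char ⟨1, by decide +kernel⟩ ⟨0, by decide +kernel⟩
          (by intro h; exact absurd (congrArg Fin.val h) (by simp)) he (by simp [hb']) (by simp [hb'])
          (fun π hπ => (hsyms π hπ).imp id And.symm) (by simpa [hb'] using hp)
    rw [card_out_eq S hF (Chev.diag_G2 F) h1, one_mul, one_mul]

theorem card_F4 [Fintype F] {p f : ℕ} [Fact p.Prime] [CharP F p] (hF : Fintype.card F = p ^ f) :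
    Nat.card (Cfsg.Out ↥(chevF4.group F)) = Nat.gcd 2 p * f := by
  obtain ⟨S⟩ := exists_setup (D := chevF4) (by simp) F
  by_cases h2 : p = 2
  · subst h2
    haveI : IsSimpleGroup ↥(chevF4.group F) :=
      ((Chev.dataF4 F).simple (Chev.perfect (by simp) fun h => by
        rcases h with h | h <;> exact absurd (congrArg ChevalleyDatum.nroots h) (by decide +kernel))).1
    haveI : CharP F Isog.dataF4.p := ‹CharP F 2›
    haveI : Fact Isog.dataF4.p.Prime := ⟨Nat.prime_two⟩
    rw [card_out_eq S hF (Chev.diag_F4 F) (S.card_range_eq_two syms_F4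
      (π := (Equiv.swap (0 : Fin 4) 3 * Equiv.swap 1 2 : Equiv.Perm (Fin 4)))
      (S.mem_range_of_isog Isog.goodF4 _ rootMap_F4 27 (by decide +kernel)
        ⟨14, by decide +kernel⟩ ⟨13, by decide +kernel⟩ (by decide +kernel) (by decide +kernel))
      (by intro h; exact absurd (congrArg (fun g : Equiv.Perm (Fin 4) => g 0) h) (by decide))),
      mul_one, Nat.gcd_self]
  · have hsyms : ∀ π : Equiv.Perm (Fin 4), chevF4.IsDiagramSymmetry π →
        π = 1 ∨ π 1 = 2 ∧ π 2 = 1 := by
      intro π hπ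
      have h := List.all_eq_true.1 syms_F4' _ (mem_symsUpTo hπ 4 le_rfl)
      revert h
      clear hπ
      revert π
      decide +kernel
    have he := f4_edge
    simp only [Bool.and_eq_true, Bool.or_eq_true, beq_iff_eq] at he
    obtain ⟨⟨he, hb⟩, hb'⟩ := he
    have hp : (ringChar F : ℤ) ≠ 2 := by
      rw [ringChar_eq (p := p)]; exact_mod_cast h2
    have h1 : Nat.card S.symOut.range = 1 := by
      rcases he with he | he
      · exact S.card_range_eq_one_of_char ⟨1, by decide +kernel⟩ ⟨2, by decide +kernel⟩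
          (by intro h; exact absurd (congrArg Fin.val h) (by simp)) he (by simp [hb]) (by simp [hb])
          (fun π hπ => (hsyms π hπ)) (by simpa [hb] using hp)
      · exact S.card_range_eq_one_of_char ⟨2, by decide +kernel⟩ ⟨1, by decide +kernel⟩
          (by intro h; exact absurd (congrArg Fin.val h) (by simp)) he (by simp [hb']) (by simp [hb'])
          (fun π hπ => (hsyms π hπ).imp id And.symm) (by simpa [hb'] using hp)
    rw [card_out_eq S hF (Chev.diag_F4 F) h1, one_mul, one_mul,
      ((Nat.coprime_primes Nat.prime_two (Fact.out : p.Prime)).2 fun h => h2 h.symm).gcd_eq_one,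
      one_mul]

theorem range_D4 [Finite F] (S : Setup chevD4 F) : Nat.card S.symOut.range = 6 ∧
    ¬ commutator (Cfsg.Out ↥(chevD4.group F)) ≤ S.symOut.ker := by
  obtain ⟨x, hx⟩ := S.mem_range_of_sym Sym.goodD4a piD4a rootMap_D4a
  obtain ⟨y, hy⟩ := S.mem_range_of_sym goodD4c piD4c rootMap_D4c
  refine ⟨?_, fun h => ?_⟩
  · have h3 : (3 : ℕ) ∣ Nat.card S.symOut.range := by
      have h := Subgroup.orderOf_dvd_natCard _ (show piD4a ∈ S.symOut.range from ⟨x, hx⟩)
      rwa [orderOf_eq_prime (p := 3) (hp := ⟨Nat.prime_three⟩) (by decide +kernel)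
        (by decide +kernel)] at h
    have h2 : (2 : ℕ) ∣ Nat.card S.symOut.range := by
      have h := Subgroup.orderOf_dvd_natCard _ (show piD4c ∈ S.symOut.range from ⟨y, hy⟩)
      rwa [orderOf_eq_prime (p := 2) (hp := ⟨Nat.prime_two⟩) (by decide +kernel)
        (by decide +kernel)] at h
    exact le_antisymm (S.card_range_le syms_D4) (Nat.le_of_dvd Nat.card_pos
      (Nat.Coprime.mul_dvd_of_dvd_of_dvd (show Nat.Coprime 2 3 by decide) h2 h3))
  · have hmem : ⁅x, y⁆ ∈ commutator (Cfsg.Out ↥(chevD4.group F)) :=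
      Subgroup.commutator_mem_commutator (Subgroup.mem_top x) (Subgroup.mem_top y)
    have := h hmem
    rw [MonoidHom.mem_ker, map_commutatorElement, hx, hy] at this
    exact absurd (this : ⁅piD4a, piD4c⁆ = 1) (by decide +kernel)

/-- Structure of the outer automorphism group. -/
theorem out_structure [Finite F] {D : ChevalleyDatum}
    (hD : D ∈ [chevG2, chevB2, chevD4, chevF4, chevE6, chevE7, chevE8])
    (Dbar Fbar : Subgroup (Cfsg.Out ↥(D.group F)))
    (hDbar : Dbar = (Subgroup.closure {φ : MulAut ↥(D.group F) | D.IsDiagonalAut φ}).map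
      (QuotientGroup.mk' (Cfsg.Inn ↥(D.group F))))
    (hFbar : Fbar = (Subgroup.closure {φ : MulAut ↥(D.group F) | D.IsFieldAut φ}).map
      (QuotientGroup.mk' (Cfsg.Inn ↥(D.group F)))) :
    Dbar.Normal ∧ IsMulCommutative ↥Dbar ∧ IsCyclic ↥Fbar ∧ (Dbar ⊔ Fbar).Normal ∧
      ((Dbar ⊔ Fbar).index = 1 ∨ (Dbar ⊔ Fbar).index = 2 ∨
        ((Dbar ⊔ Fbar).index = 6 ∧ ¬ commutator (Cfsg.Out ↥(D.group F)) ≤ Dbar ⊔ Fbar)) := by
  obtain ⟨S⟩ := exists_setup hD F
  have hd : Dbar = S.diagOut.range := by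
    rw [hDbar, S.closure_diag (H51.weightOK_of_mem hD), MonoidHom.map_range]; rfl
  have hf : Fbar = S.fieldOut.range := by
    rw [hFbar, S.closure_field, MonoidHom.map_range]; rfl
  have hsup : Dbar ⊔ Fbar = S.symOut.ker := by rw [hd, hf, S.ker_symOut]
  have hsmall : ∀ {N}, N ≤ 2 → (symsUpTo D D.rank).length ≤ N →
      (S.symOut.ker.index = 1 ∨ S.symOut.ker.index = 2) := fun {N} hN h => by
    rw [Subgroup.index_ker]
    have h1 := S.card_range_le (h.trans hN)
    have h2 : 0 < Nat.card S.symOut.range := Nat.card_pos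
    omega
  refine ⟨hd ▸ S.normal_diagOut, hd ▸ ?_, hf ▸ ?_, hsup ▸ MonoidHom.normal_ker _, ?_⟩
  · refine ⟨⟨?_⟩⟩
    rintro ⟨_, a, rfl⟩ ⟨_, b, rfl⟩
    exact Subtype.ext (show S.diagOut a * S.diagOut b = S.diagOut b * S.diagOut a by
      rw [← map_mul, ← map_mul, mul_comm])
  · haveI := Fintype.ofFinite F
    haveI := ringChar.charP F
    obtain ⟨m, hp, hcard⟩ := FiniteField.card F (ringChar F)
    haveI : Fact (ringChar F).Prime := ⟨hp⟩
    obtain ⟨e⟩ := H56.ringAut_equiv F (PNat.pos m) hcard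
    haveI : IsCyclic (RingAut F) := isCyclic_of_surjective e.symm e.symm.surjective
    exact isCyclic_of_surjective S.fieldOut.rangeRestrict S.fieldOut.rangeRestrict_surjective
  · rw [hsup]
    simp only [List.mem_cons, List.not_mem_nil, or_false] at hD
    rcases hD with rfl | rfl | rfl | rfl | rfl | rfl | rfl
    · exact (hsmall le_rfl syms_G2).imp id Or.inl
    · exact (hsmall le_rfl syms_B2).imp id Or.inl
    · obtain ⟨h6, hc⟩ := range_D4 S
      exact Or.inr (Or.inr ⟨by rw [Subgroup.index_ker, h6], hc⟩)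
    · exact (hsmall le_rfl syms_F4).imp id Or.inl
    · exact (hsmall le_rfl syms_E6).imp id Or.inl
    · exact (hsmall one_le_two syms_E7).imp id Or.inl
    · exact (hsmall one_le_two syms_E8).imp id Or.inl

end Cfsg.Agent.H56.ChevAut
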