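import Cfsg.Agent.H37.Chev.GLForm

/-!
Automorphisms of a finite group with a split Tits system: normalisation of `U` and of its opposite,
and the induced automorphism of the Coxeter group.
-/
set_option autoImplicit false

namespace Cfsg.Agent.H56.ChevAut

open Cfsg.Agent.H37 Cfsg.Agent.H27

variable {G W : Type*} [Group G] [Group W] (A : Tits.Ambient G W)

/-- `θ` stabilises the subgroup `K`. -/
def Fix (θ : G ≃* G) (K : Subgroup G) : Prop := ∀ x, θ x ∈ K ↔ x ∈ K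

theorem Fix.symm {θ : G ≃* G} {K : Subgroup G} (h : Fix θ K) : Fix θ.symm K := fun x => by
  rw [← h (θ.symm x), MulEquiv.apply_symm_apply]

theorem Fix.trans {θ η : G ≃* G} {K : Subgroup G} (h : Fix θ K) (h' : Fix η K) :
    Fix (θ.trans η) K := fun x => (h' (θ x)).trans (h x)

/-- The double coset of `w`. -/
def Cell (w : W) : Set G := {g | Tits.InCell A.U A.H (A.n w) g}

theorem mem_Cell {w : W} {g : G} :
    g ∈ Cell A w ↔ ∃ b ∈ A.B, ∃ c ∈ A.B, g = b * A.n w * c := A.inCell_iff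

theorem n_mem_Cell (w : W) : A.n w ∈ Cell A w :=
  (mem_Cell A).2 ⟨1, one_mem _, 1, one_mem _, by simp⟩

theorem mul_mem_Cell {w : W} {b g c : G} (hb : b ∈ A.B) (hg : g ∈ Cell A w) (hc : c ∈ A.B) :
    b * g * c ∈ Cell A w := by
  obtain ⟨b', hb', c', hc', rfl⟩ := (mem_Cell A).1 hg
  exact (mem_Cell A).2 ⟨b * b', mul_mem hb hb', c' * c, mul_mem hc' hc, by group⟩

theorem Cell_unique {a b : W} {g : G} (ha : g ∈ Cell A a) (hb : g ∈ Cell A b) : a = b :=
  A.n_inj_B (BN.eqv_of_mem_cells A.pair (A.n_mem_N a) (A.n_mem_N b) (A.mem_cell_of_inCell ha)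
    (A.mem_cell_of_inCell hb))

theorem exists_Cell (g : G) : ∃ w, g ∈ Cell A w := by
  obtain ⟨u, hu, h, hh, w, v, hv, rfl⟩ := A.exists_eq g
  exact ⟨w, (mem_Cell A).2 ⟨u * h, ⟨u, hu, h, hh, rfl⟩, v, A.U_le_B (A.Uw_le w hv), rfl⟩⟩

theorem mem_Cell_one {g : G} : g ∈ Cell A 1 ↔ g ∈ A.B := by
  rw [mem_Cell, A.n_one]
  constructor
  · rintro ⟨b, hb, c, hc, rfl⟩; simpa using mul_mem hb hc
  · exact fun hg => ⟨g, hg, 1, one_mem _, by simp⟩

theorem S_ne_one {s : W} (hs : s ∈ A.S) : s ≠ 1 := by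
  rintro rfl
  exact A.Uw_S_ne 1 hs A.Uw_one

/-- The Borel subgroup is the normaliser of `U`. -/
theorem normalizer_U : Subgroup.normalizer (A.U : Set G) = A.B := by
  have hB : A.B ≤ Subgroup.normalizer (A.U : Set G) := by
    intro b hb
    have key : ∀ b ∈ A.B, ∀ u ∈ A.U, b * u * b⁻¹ ∈ A.U := by
      rintro _ ⟨a, ha, h, hh, rfl⟩ u hu
      rw [show a * h * u * (a * h)⁻¹ = a * (h * u * h⁻¹) * a⁻¹ by group]
      exact mul_mem (mul_mem ha (A.H_conj_U h hh u hu)) (inv_mem ha)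
    rw [Subgroup.mem_normalizer_iff]
    refine fun u => ⟨key b hb u, fun hu => ?_⟩
    simpa [mul_assoc] using key b⁻¹ (inv_mem hb) _ hu
  refine le_antisymm ?_ hB
  rw [BN.eq_parabolic_of_le A.pair (Subgroup.normalizer (A.U : Set G)) hB]
  refine BN.parabolic_le A.pair (le_refl _) ?_
  rintro _ ⟨⟨s, hs, rfl⟩, hn⟩
  exfalso
  refine A.Uw_S_ne s hs (eq_bot_iff.2 fun v hv => Subgroup.mem_bot.2 ?_)
  obtain ⟨u, hu, e⟩ : ∃ u ∈ A.U, A.n s * v = u * A.n s :=
    ⟨_, (Subgroup.mem_normalizer_iff.1 hn v).1 (A.Uw_le s hv), by group⟩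
  exact (A.unique (one_mem _) hu (one_mem _) (one_mem _) hv (one_mem (A.Uw s))
    (show 1 * 1 * A.n s * v = u * 1 * A.n s * 1 by simpa using e)).2.2.2

theorem fix_B {θ : G ≃* G} (h : Fix θ A.U) : Fix θ A.B := by
  intro x
  rw [← normalizer_U A, Subgroup.mem_normalizer_iff, Subgroup.mem_normalizer_iff]
  constructor
  · intro hx y
    have := hx (θ y)
    rwa [← map_inv, ← map_mul, ← map_mul, h, h] at this
  · intro hx y
    obtain ⟨y, rfl⟩ := θ.surjective y
    rw [← map_inv, ← map_mul, ← map_mul, h, h]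
    exact hx y

/-! ### The opposite group -/

/-- `w₀` behaves like a longest element. -/
structure Opp (w₀ : W) : Prop where
  Uw_eq : A.Uw w₀ = A.U
  eq_w₀ : ∀ w, (∀ u ∈ A.U, A.n w * u * (A.n w)⁻¹ ∈ A.U → u = 1) → w = w₀

/-- The opposite of `U`. -/
def Vopp (w₀ : W) : Subgroup G := A.U.map (MulAut.conj (A.n w₀)).toMonoidHom

theorem mem_Vopp {w₀ : W} {g : G} :
    g ∈ Vopp A w₀ ↔ (A.n w₀)⁻¹ * g * A.n w₀ ∈ A.U := by
  rw [Vopp, Subgroup.mem_map_equiv, MulAut.conj_symm_apply]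

variable {w₀ : W} (hop : Opp A w₀)

include hop in
theorem U_inter_conj_B {x : G} (hx : x ∈ A.U) (hx' : (A.n w₀)⁻¹ * x * A.n w₀ ∈ A.B) : x = 1 := by
  obtain ⟨u, hu, h, hh, e⟩ := hx'
  have hn : A.n w₀ * u = x * (A.n w₀ * h⁻¹ * (A.n w₀)⁻¹) * A.n w₀ := by
    calc A.n w₀ * u = A.n w₀ * (u * h) * h⁻¹ := by group
      _ = A.n w₀ * ((A.n w₀)⁻¹ * x * A.n w₀) * h⁻¹ := by rw [← e]
      _ = _ := by group
  exact (A.unique (one_mem _) hx (one_mem _) (A.n_conj_H w₀ _ (inv_mem hh))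
    (hop.Uw_eq.symm ▸ hu : u ∈ A.Uw w₀) (one_mem _)
    (show 1 * 1 * A.n w₀ * u = x * (A.n w₀ * h⁻¹ * (A.n w₀)⁻¹) * A.n w₀ * 1 by
      simpa using hn)).2.1.symm

include hop in
theorem U_inter_V {x : G} (hx : x ∈ A.U) (hx' : x ∈ Vopp A w₀) : x = 1 :=
  U_inter_conj_B A hop hx (A.U_le_B ((mem_Vopp A).1 hx'))

include hop in
/-- An element normalising `U` and its opposite lies in `H`. -/
theorem mem_H_of_fix {x : G} (hU : Fix (MulAut.conj x) A.U)
    (hV : Fix (MulAut.conj x) (Vopp A w₀)) : x ∈ A.H := by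
  have hxB : x ∈ A.B := by
    rw [← normalizer_U A, Subgroup.mem_normalizer_iff]
    intro y
    have := hU y
    rw [MulAut.conj_apply] at this
    exact this.symm
  have hxB' : (A.n w₀)⁻¹ * x * A.n w₀ ∈ A.B := by
    rw [← normalizer_U A, Subgroup.mem_normalizer_iff]
    intro y
    have := hV (A.n w₀ * y * (A.n w₀)⁻¹)
    rw [mem_Vopp, mem_Vopp, MulAut.conj_apply] at this
    simpa [mul_assoc] using this.symm
  obtain ⟨u, hu, h, hh, rfl⟩ := hxB
  have hk : (A.n w₀)⁻¹ * h * A.n w₀ ∈ A.B := A.H_le_B (A.n_conj_H' w₀ hh)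
  have : (A.n w₀)⁻¹ * u * A.n w₀ ∈ A.B := by
    have := mul_mem hxB' (inv_mem hk)
    simpa [mul_assoc] using this
  rwa [U_inter_conj_B A hop hu this, one_mul]

include hop in
/-- After an inner automorphism, an automorphism stabilises `U` and its opposite. -/
theorem exists_normalize [Finite G] {p : ℕ} [Fact p.Prime] (hp : IsPGroup p A.U)
    (hidx : ¬ p ∣ A.U.index) (θ : G ≃* G) :
    ∃ g : G, Fix (θ.trans (MulAut.conj g)) A.U ∧ Fix (θ.trans (MulAut.conj g)) (Vopp A w₀) := by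
  set P : Sylow p G := hp.toSylow hidx with hP
  have hPU : (P : Subgroup G) = A.U := IsPGroup.toSylow_coe hp hidx
  have hp' : IsPGroup p (A.U.map θ.toMonoidHom) := hp.map _
  have hidx' : ¬ p ∣ (A.U.map θ.toMonoidHom).index := by
    rwa [show (A.U.map θ.toMonoidHom).index = A.U.index from Subgroup.index_map_equiv A.U θ]
  set Q : Sylow p G := hp'.toSylow hidx' with hQ
  obtain ⟨a, ha⟩ := MulAction.exists_smul_eq G Q P
  have hfix : Fix (θ.trans (MulAut.conj a)) A.U := by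
    intro x
    have h2 : (Q : Subgroup G).map (MulAut.conj a).toMonoidHom = A.U := by
      rw [← hPU, ← ha]; rfl
    rw [IsPGroup.toSylow_coe hp' hidx'] at h2
    conv_lhs => rw [← h2, MulEquiv.trans_apply]
    rw [Subgroup.mem_map_equiv, MulEquiv.symm_apply_apply, Subgroup.mem_map_equiv,
      MulEquiv.symm_apply_apply]
  set η := θ.trans (MulAut.conj a) with hη
  obtain ⟨u, hu, h, hh, w, v, hv, e⟩ := A.exists_eq (η (A.n w₀))
  have hvU : v ∈ A.U := A.Uw_le w hv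
  have key : ∀ x, η x ∈ A.U.map (MulAut.conj (η (A.n w₀))).toMonoidHom ↔ x ∈ Vopp A w₀ := by
    intro x
    rw [Subgroup.mem_map_equiv, MulAut.conj_symm_apply, mem_Vopp, ← map_inv, ← map_mul, ← map_mul]
    exact hfix _
  obtain ⟨k, hk, ek⟩ : ∃ k, k ∈ A.H ∧ h * A.n w = A.n w * k :=
    ⟨(A.n w)⁻¹ * h * A.n w, A.n_conj_H' w hh, by group⟩
  have e' : η (A.n w₀) = u * A.n w * (k * v) := by
    calc η (A.n w₀) = u * (h * A.n w) * v := by rw [e]; group
      _ = _ := by rw [ek]; group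
  have hkv : ∀ y, y ∈ A.U ↔ (k * v) * y * (k * v)⁻¹ ∈ A.U := by
    have : k * v ∈ Subgroup.normalizer (A.U : Set G) := by
      rw [normalizer_U A]; exact mul_mem (A.H_le_B hk) (A.U_le_B hvU)
    exact Subgroup.mem_normalizer_iff.1 this
  -- the image of the opposite is `u n_w U (u n_w)⁻¹`
  have himg : ∀ x, x ∈ Vopp A w₀ ↔ (u * A.n w)⁻¹ * η x * (u * A.n w) ∈ A.U := by
    intro x
    rw [← key x, Subgroup.mem_map_equiv, MulAut.conj_symm_apply, e', hkv]
    refine iff_of_eq (congrArg (· ∈ A.U) ?_)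
    group
  have hw : w = w₀ := by
    refine hop.eq_w₀ w fun y hy hy' => ?_
    obtain ⟨x, hx⟩ := η.surjective (u * A.n w * y * (u * A.n w)⁻¹)
    have hxV : x ∈ Vopp A w₀ := by
      rw [himg, hx, show (u * A.n w)⁻¹ * (u * A.n w * y * (u * A.n w)⁻¹) * (u * A.n w) = y by group]
      exact hy
    have hxU : x ∈ A.U := by
      rw [← hfix x, hx, show u * A.n w * y * (u * A.n w)⁻¹ = u * (A.n w * y * (A.n w)⁻¹) * u⁻¹ by
        group]
      exact mul_mem (mul_mem hu hy') (inv_mem hu)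
    have h1 := U_inter_V A hop hxU hxV
    rw [h1, map_one] at hx
    exact conj_eq_one_iff.1 hx.symm
  subst hw
  refine ⟨u⁻¹ * a, fun x => ?_, fun x => ?_⟩
  · have h1 := hfix x
    rw [hη, MulEquiv.trans_apply, MulAut.conj_apply] at h1
    rw [MulEquiv.trans_apply, MulAut.conj_apply, ← h1,
      show u⁻¹ * a * θ x * (u⁻¹ * a)⁻¹ = u⁻¹ * (a * θ x * a⁻¹) * u by group]
    exact ⟨fun hm => by simpa [mul_assoc] using mul_mem (mul_mem hu hm) (inv_mem hu),
      fun hm => mul_mem (mul_mem (inv_mem hu) hm) hu⟩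
  · rw [himg x, mem_Vopp, MulEquiv.trans_apply, MulAut.conj_apply, hη, MulEquiv.trans_apply,
      MulAut.conj_apply]
    refine iff_of_eq (congrArg (· ∈ A.U) ?_)
    group

/-! ### The automorphism of the Coxeter group -/

/-- The element of `W` to which an automorphism sends `w`. -/
noncomputable def piFun (θ : G ≃* G) (w : W) : W := (exists_Cell A (θ (A.n w))).choose

theorem pi_cell {θ : G ≃* G} (hB : Fix θ A.B) {w : W} {g : G} (hg : g ∈ Cell A w) :
    θ g ∈ Cell A (piFun A θ w) := by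
  obtain ⟨b, hb, c, hc, rfl⟩ := (mem_Cell A).1 hg
  rw [map_mul, map_mul]
  exact mul_mem_Cell A ((hB b).2 hb) (exists_Cell A (θ (A.n w))).choose_spec ((hB c).2 hc)

theorem pi_eq {θ : G ≃* G} (hB : Fix θ A.B) {a w : W} {g : G} (hg : g ∈ Cell A w)
    (h : θ g ∈ Cell A a) : piFun A θ w = a :=
  Cell_unique A (pi_cell A hB hg) h

theorem pi_pi_symm {θ : G ≃* G} (hB : Fix θ A.B) (w : W) :
    piFun A θ.symm (piFun A θ w) = w :=
  pi_eq A hB.symm (pi_cell A hB (n_mem_Cell A w)) (by simpa using n_mem_Cell A w)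

theorem pi_injective {θ : G ≃* G} (hB : Fix θ A.B) : Function.Injective (piFun A θ) :=
  fun a b h => by rw [← pi_pi_symm A hB a, h, pi_pi_symm A hB b]

theorem pi_one {θ : G ≃* G} (hB : Fix θ A.B) : piFun A θ 1 = 1 :=
  pi_eq A hB ((mem_Cell_one A).2 (one_mem A.B))
    ((mem_Cell_one A).2 ((hB 1).2 (one_mem A.B)))

theorem cell_iff {θ : G ≃* G} (hB : Fix θ A.B) {w : W} {g : G} :
    θ g ∈ Cell A (piFun A θ w) ↔ g ∈ Cell A w := by
  refine ⟨fun h => ?_, pi_cell A hB⟩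
  obtain ⟨a, ha⟩ := exists_Cell A g
  rwa [← pi_injective A hB (pi_eq A hB ha h)]

/-- `B ∪ B w B` is a subgroup and `w` is not the identity. -/
def IsMin (w : W) : Prop :=
  w ≠ 1 ∧ ∃ P : Subgroup G, ∀ x, x ∈ P ↔ x ∈ A.B ∨ x ∈ Cell A w

theorem isMin_iff {w : W} : IsMin A w ↔ w ∈ A.S := by
  constructor
  · rintro ⟨h1, P, hP⟩
    have hBP : A.pair.B ≤ P := fun x hx => (hP x).2 (Or.inl hx)
    by_contra hw
    have hPB : P ≤ A.B := by
      rw [BN.eq_parabolic_of_le A.pair P hBP]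
      refine BN.parabolic_le A.pair (le_refl _) ?_
      rintro _ ⟨⟨s, hs, rfl⟩, hn⟩
      rcases (hP _).1 hn with h | h
      · exact h
      · exact absurd (Cell_unique A h (n_mem_Cell A s) ▸ hs) hw
    exact h1 (A.eq_one_of_n_mem_B (hPB ((hP _).2 (Or.inr (n_mem_Cell A w)))))
  · intro hs
    have hn : A.n w ∈ A.pair.S := ⟨w, hs, rfl⟩
    refine ⟨S_ne_one A hs, A.pair.parabolic {A.n w}, fun x => ⟨fun hx => ?_, ?_⟩⟩
    · rcases Chev.mem_parabolic_one A.pair hn hx with h | ⟨b, hb, c, hc, rfl⟩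
      · exact Or.inl h
      · exact Or.inr ((mem_Cell A).2 ⟨b, hb, c, hc, rfl⟩)
    · rintro (h | h)
      · exact BN.B_le_parabolic A.pair _ h
      · obtain ⟨b, hb, c, hc, rfl⟩ := (mem_Cell A).1 h
        exact mul_mem (mul_mem (BN.B_le_parabolic A.pair _ hb) (BN.subset_parabolic A.pair rfl))
          (BN.B_le_parabolic A.pair _ hc)

theorem pi_mem_S {θ : G ≃* G} (hB : Fix θ A.B) {s : W} (hs : s ∈ A.S) : piFun A θ s ∈ A.S := by
  obtain ⟨h1, P, hP⟩ := (isMin_iff A).2 hs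
  refine (isMin_iff A).1 ⟨fun h => h1 (pi_injective A hB (h.trans (pi_one A hB).symm)),
    P.map θ.toMonoidHom, fun x => ?_⟩
  obtain ⟨x, rfl⟩ := θ.surjective x
  rw [Subgroup.mem_map_equiv, MulEquiv.symm_apply_apply, hP, hB, cell_iff A hB]

theorem pi_smul {θ : G ≃* G} (hB : Fix θ A.B) {s : W} (hs : s ∈ A.S) (w : W) :
    piFun A θ (s * w) = piFun A θ s * piFun A θ w := by
  obtain ⟨b₁, hb₁, c₁, hc₁, e₁⟩ := (mem_Cell A).1 (pi_cell A hB (n_mem_Cell A s))
  obtain ⟨b₂, hb₂, c₂, hc₂, e₂⟩ := (mem_Cell A).1 (pi_cell A hB (n_mem_Cell A w))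
  have hmem : θ (A.n s * A.n w) ∈ Cell A (piFun A θ (s * w)) := by
    refine pi_cell A hB ?_
    obtain ⟨h, hh, e⟩ := A.n_mul s w
    rw [e]
    simpa using mul_mem_Cell A (A.H_le_B hh) (n_mem_Cell A (s * w)) (one_mem A.B)
  rw [map_mul, e₁, e₂, show b₁ * A.n (piFun A θ s) * c₁ * (b₂ * A.n (piFun A θ w) * c₂)
    = b₁ * (A.n (piFun A θ s) * (c₁ * b₂) * A.n (piFun A θ w)) * c₂ by group] at hmem
  rcases A.step (pi_mem_S A hB hs) (piFun A θ w) (mul_mem hc₁ hb₂) with h | h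
  · exact Cell_unique A hmem (mul_mem_Cell A hb₁ h hc₂)
  · have := pi_injective A hB (Cell_unique A hmem (mul_mem_Cell A hb₁ h hc₂))
    exact absurd (mul_eq_right.1 this) (S_ne_one A hs)

theorem pi_mul {θ : G ≃* G} (hB : Fix θ A.B) (a b : W) :
    piFun A θ (a * b) = piFun A θ a * piFun A θ b := by
  have hmem : a ∈ Subgroup.closure A.S := by rw [A.closure_S]; exact Subgroup.mem_top a
  revert b
  induction hmem using Subgroup.closure_induction with
  | mem s hs => exact pi_smul A hB hs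
  | one => intro b; simp [pi_one A hB]
  | mul x y _ _ hx hy => intro b; rw [mul_assoc, hx, hy, hx y, mul_assoc]
  | inv x _ hx =>
      intro b
      have h1 := hx x⁻¹
      have h2 := hx (x⁻¹ * b)
      rw [mul_inv_cancel, pi_one A hB] at h1
      rw [← mul_assoc, mul_inv_cancel, one_mul] at h2
      rw [eq_inv_of_mul_eq_one_right h1.symm, h2, inv_mul_cancel_left]

/-- The endomorphism of `W` induced by an automorphism stabilising `B`. -/
noncomputable def piHom {θ : G ≃* G} (hB : Fix θ A.B) : W →* W :=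
  MonoidHom.mk' (piFun A θ) (pi_mul A hB)

@[simp] theorem piHom_apply {θ : G ≃* G} (hB : Fix θ A.B) (w : W) :
    piHom A hB w = piFun A θ w := rfl

end Cfsg.Agent.H56.ChevAut
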