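import Cfsg.Agent.H56.ChevAut.Edges

/-!
Every automorphism of a finite Chevalley group is inner · diagonal · graph · field.
-/
set_option autoImplicit false

namespace Cfsg.Agent.H56.ChevAut.Setup

open Cfsg.Lie Cfsg.Agent.H37 Cfsg.Agent.H37.RootSys

variable {D : ChevalleyDatum} {F : Type*} [Field F] (S : Setup D F)
include S

theorem isPGroup_U [Finite F] : IsPGroup (ringChar F) S.Q.amb.U := by
  haveI := Fintype.ofFinite F
  haveI := ringChar.charP F
  obtain ⟨m, hp, hcard⟩ := FiniteField.card F (ringChar F)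
  refine IsPGroup.of_card (n := (m : ℕ) * (D.nroots / 2)) ?_
  rw [S.Q.card_U, Nat.card_eq_fintype_card, hcard, ← pow_mul]

theorem index_U [Finite F] : ¬ ringChar F ∣ S.Q.amb.U.index := by
  haveI := Fintype.ofFinite F
  haveI := ringChar.charP F
  obtain ⟨m, hp, hcard⟩ := FiniteField.card F (ringChar F)
  haveI := S.Q.X.good.finite
  haveI := Fintype.ofFinite S.Q.X.M.Group
  have hq : Nat.card F = ringChar F ^ (m : ℕ) := by rw [Nat.card_eq_fintype_card, hcard]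
  set p := ringChar F
  have hsum : ¬ p ∣ ∑ w, Nat.card (S.Q.amb.Uw w) := by
    classical
    intro h
    rw [← Finset.add_sum_erase _ _ (Finset.mem_univ (1 : S.Q.X.M.Group))] at h
    have hrest : p ∣ ∑ w ∈ (Finset.univ : Finset S.Q.X.M.Group).erase 1, Nat.card (S.Q.amb.Uw w) := by
      refine Finset.dvd_sum fun w hw => ?_
      rw [S.Q.card_Uw, hq, ← pow_mul]
      refine dvd_pow_self _ (Nat.mul_ne_zero m.ne_zero fun h0 => ?_)
      exact Finset.ne_of_mem_erase hw (S.Q.X.good.eq_one_of_inv_eq_zero h0)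
    have h1 := (Nat.dvd_add_left hrest).1 h
    rw [S.Q.card_Uw, S.Q.X.good.inv_one, pow_zero] at h1
    exact hp.ne_one (Nat.dvd_one.1 h1)
  have hH : ¬ p ∣ Nat.card S.Q.amb.H := by
    intro h
    have hdvd : Nat.card S.Q.amb.H ∣ (Nat.card F - 1) ^ D.rank := by
      rw [S.Q.card_H, S.Q.K.diagonalSubgroup_eq F]
      refine dvd_trans (Subgroup.card_range_dvd _) ?_
      rw [Nat.card_fun, Nat.card_units, Nat.card_eq_fintype_card (α := Fin D.rank), Fintype.card_fin]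
    have h1 := hp.dvd_of_dvd_pow (h.trans hdvd)
    have hp' : p ∣ Nat.card F := hq ▸ dvd_pow_self _ m.ne_zero
    have h2 : 1 ≤ Nat.card F := Nat.one_le_iff_ne_zero.2 Nat.card_pos.ne'
    have := Nat.dvd_sub hp' h1
    rw [show Nat.card F - (Nat.card F - 1) = 1 by omega] at this
    exact hp.ne_one (Nat.dvd_one.1 this)
  have hidx : S.Q.amb.U.index = Nat.card S.Q.amb.H * ∑ w, Nat.card (S.Q.amb.Uw w) := by
    have h1 := S.Q.amb.U.card_mul_index
    rw [S.Q.amb.toNormalForm.card_eq, mul_assoc] at h1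
    exact mul_left_cancel₀ Nat.card_pos.ne' h1
  rw [hidx, hp.dvd_mul, not_or]
  exact ⟨hH, hsum⟩

/-- After an inner automorphism, an automorphism stabilises `U` and its opposite. -/
theorem exists_inner [Finite F] (θ : ↥(D.group F) ≃* ↥(D.group F)) :
    ∃ g, Fix (θ.trans (MulAut.conj g)) S.Q.amb.U ∧ Fix (θ.trans (MulAut.conj g)) S.V := by
  haveI := Fintype.ofFinite F
  haveI := ringChar.charP F
  haveI : Fact (ringChar F).Prime := ⟨CharP.char_is_prime F _⟩
  exact exists_normalize _ S.opp S.isPGroup_U S.index_U θ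

theorem eq_xs {g : ↥(D.group F)} {i : Fin D.rank} {t : F}
    (h : ((g : GL D.Idx F) : Matrix D.Idx D.Idx F) = D.x F (D.simple i) t) : g = S.xs i t :=
  Subtype.ext (Units.ext h)

theorem eq_ys {g : ↥(D.group F)} {i : Fin D.rank} {t : F}
    (h : ((g : GL D.Idx F) : Matrix D.Idx D.Idx F) = D.x F (D.neg (D.simple i)) t) :
    g = S.ys i t :=
  Subtype.ext (Units.ext h)

theorem isGraphAut_of {γ : ↥(D.group F) ≃* ↥(D.group F)} {σ : Equiv.Perm (Fin D.rank)}
    (hσ : D.IsDiagramSymmetry σ) (hx : ∀ i t, γ (S.xs i t) = S.xs (σ i) (t ^ gexp D F σ i))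
    (hy : ∀ i t, γ (S.ys i t) = S.ys (σ i) (t ^ gexp D F σ i)) : D.IsGraphAut γ :=
  ⟨σ, hσ, fun g i t => ⟨fun hg => by rw [S.eq_xs hg, hx]; rfl,
    fun hg => by rw [S.eq_ys hg, hy]; rfl⟩⟩

theorem fieldAut_xs {φ : ↥(D.group F) ≃* ↥(D.group F)} {f : F → F}
    (hφ : ∀ (g : ↥(D.group F)) (r : ℕ) (t : F), r < D.nroots →
      ((g : GL D.Idx F) : Matrix D.Idx D.Idx F) = D.x F r t →
      ((φ g : GL D.Idx F) : Matrix D.Idx D.Idx F) = D.x F r (f t)) (i : Fin D.rank) (t : F) :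
    φ (S.xs i t) = S.xs i (f t) ∧ φ (S.ys i t) = S.ys i (f t) :=
  ⟨S.eq_xs (hφ (S.xs i t) _ t (S.simple_lt i) rfl),
    S.eq_ys (hφ (S.ys i t) _ t (S.Q.K.neg_lt (S.simple_lt i)) rfl)⟩

/-- Steinberg's theorem. -/
theorem decomposition [Finite F] (θ : ↥(D.group F) ≃* ↥(D.group F)) :
    ∃ (x : ↥(D.group F)) (d g f : ↥(D.group F) ≃* ↥(D.group F)),
      D.IsDiagonalAut d ∧ D.IsGraphAut g ∧ D.IsFieldAut f ∧
        ∀ y : ↥(D.group F), θ y = x * d (g (f y)) * x⁻¹ := by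
  obtain ⟨a, hU, hV⟩ := S.exists_inner θ
  obtain ⟨σ, c, f, -, hσ, -, hx, hy⟩ := S.exists_frame hU hV
  obtain ⟨φ, hφ⟩ := exists_field_aut S.Q.ord f
  set η := θ.trans (MulAut.conj a)
  set γ := φ.symm.trans (η.trans (S.diagAut c).symm)
  have hφs : ∀ i t, φ.symm (S.xs i t) = S.xs i (f.symm t) ∧ φ.symm (S.ys i t) = S.ys i (f.symm t) := by
    intro i t
    rw [MulEquiv.symm_apply_eq, MulEquiv.symm_apply_eq, (S.fieldAut_xs hφ i _).1,
      (S.fieldAut_xs hφ i _).2, RingEquiv.apply_symm_apply]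
    exact ⟨rfl, rfl⟩
  refine ⟨a⁻¹, S.diagAut c, γ, φ, S.diagAut_isDiagonal c,
    S.isGraphAut_of hσ (fun i t => ?_) (fun i t => ?_), ⟨f, hφ⟩, fun y => ?_⟩
  · simp only [γ, MulEquiv.trans_apply]
    rw [(hφs i t).1, MulEquiv.symm_apply_eq, diagAut_xs, hx, RingEquiv.apply_symm_apply]
  · simp only [γ, MulEquiv.trans_apply]
    rw [(hφs i t).2, MulEquiv.symm_apply_eq, diagAut_ys, hy, RingEquiv.apply_symm_apply]
  · simp only [γ, η, MulEquiv.trans_apply, MulEquiv.symm_apply_apply, MulEquiv.apply_symm_apply,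
      MulAut.conj_apply, inv_inv]
    group

end Cfsg.Agent.H56.ChevAut.Setup
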