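import Cfsg.Agent.H56.ChevAut.Roots

/-!
Generation by the fundamental root elements and their negatives, diagonal automorphisms.
-/
set_option autoImplicit false

namespace Cfsg.Agent.H56.ChevAut.Setup

open Cfsg.Lie Cfsg.Agent.H37 Cfsg.Agent.H37.RootSys

variable {D : ChevalleyDatum} {F : Type*} [Field F] (S : Setup D F)
include S

theorem ns_word (i : Fin D.rank) : S.ns i = S.xs i 1 * S.ys i (-1) * S.xs i 1 := by
  refine Subtype.ext ?_
  show S.Q.K.nS F i = _
  rw [Chevalley.Cert.nS, S.Q.K.nU_eq, inv_one]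
  rfl

/-- The fundamental root elements and their negatives generate the group. -/
theorem eq_top_of_gens {P : Subgroup ↥(D.group F)} (hx : ∀ i t, S.xs i t ∈ P)
    (hy : ∀ i t, S.ys i t ∈ P) : P = ⊤ := by
  have hn : ∀ i, i < S.Q.X.n → nG S.Q.K F i ∈ P := fun i hi => by
    have := S.ns_word ⟨i, S.Q.rank_eq.symm ▸ hi⟩
    change nG S.Q.K F i = _ at this
    rw [this]
    exact mul_mem (mul_mem (hx _ _) (hy _ _)) (hx _ _)
  have hpos : ∀ r, r < D.nroots → D.nroots / 2 ≤ r → ∀ t, xG S.Q.K F r t ∈ P := by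
    intro r
    induction r using Nat.strong_induction_on with
    | _ r ih =>
      intro hr hp t
      rcases S.Q.X.climb r hr hp with ⟨i, hi, rfl⟩ | ⟨i, hi, h1, h2⟩
      · exact hx ⟨i, S.Q.rank_eq.symm ▸ hi⟩ t
      · have hi' : i < D.rank := S.Q.rank_eq.symm ▸ hi
        have hs : S.Q.K.w i r < D.nroots := (S.Q.K.w_lt i hi' r hr).1
        have h3 := ih _ h1 (sigma_eq_w S.Q.X.good S.Q.K hi hr ▸ hs) h2
        rw [sigma_eq_w S.Q.X.good S.Q.K hi hr] at h3
        have e : xG S.Q.K F r t = nG S.Q.K F i *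
            xG S.Q.K F (S.Q.K.w i r) ((S.Q.K.sg i (S.Q.K.w i r) : F) * t) * (nG S.Q.K F i)⁻¹ := by
          refine Subtype.ext ?_
          show S.Q.K.xU F r t = S.Q.K.nS F i * S.Q.K.xU F (S.Q.K.w i r) _ * (S.Q.K.nS F i)⁻¹
          rw [S.Q.K.nS_conj_xU F hi' hs, (S.Q.K.w_lt i hi' r hr).2, ← mul_assoc, ← Int.cast_mul,
            S.Q.K.sg_sq, Int.cast_one, one_mul]
        rw [e]
        exact mul_mem (mul_mem (hn i hi) (h3 _)) (inv_mem (hn i hi))
  exact top_eq S.Q.X.good S.Q.K S.Q.X.climb S.Q.ord P hpos hn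

/-- Automorphisms agreeing on the fundamental root elements and their negatives are equal. -/
theorem aut_ext {φ ψ : ↥(D.group F) ≃* ↥(D.group F)} (hx : ∀ i t, φ (S.xs i t) = ψ (S.xs i t))
    (hy : ∀ i t, φ (S.ys i t) = ψ (S.ys i t)) : φ = ψ := by
  have h : MonoidHom.eqLocus φ.toMonoidHom ψ.toMonoidHom = ⊤ := S.eq_top_of_gens hx hy
  ext g
  have hg : g ∈ MonoidHom.eqLocus φ.toMonoidHom ψ.toMonoidHom := h ▸ Subgroup.mem_top g
  exact congrArg (fun a : ↥(D.group F) => (a : GL D.Idx F).val _ _) hg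

/-- A character of the root lattice from its values on the fundamental roots. -/
def charFn (c : Fin D.rank → Fˣ) : ℕ → Fˣ :=
  S.Q.K.chiR F fun m => if h : m < D.rank then c ⟨m, h⟩ else 1

theorem charFn_isRootCharacter (c : Fin D.rank → Fˣ) : D.IsRootCharacter (S.charFn c) := by
  constructor
  · intro r hr
    simp only [charFn, Chevalley.Cert.chiR, ← Finset.prod_inv_distrib]
    refine Finset.prod_congr rfl fun m hm => ?_
    rw [S.Q.K.cf_neg r hr m (Finset.mem_range.1 hm), zpow_neg]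
  · intro r s k hr hs hk
    simp only [charFn, Chevalley.Cert.chiR, ← Finset.prod_mul_distrib]
    refine Finset.prod_congr rfl fun m hm => ?_
    rw [← zpow_add]
    congr 1
    have := S.Q.K.entry_cf r hr s 0 k hk m (Finset.mem_range.1 hm)
    simpa using this

theorem charFn_simple (c : Fin D.rank → Fˣ) (i : Fin D.rank) :
    S.charFn c (D.simple i) = c i := by
  simp only [charFn, Chevalley.Cert.chiR]
  rw [Finset.prod_eq_single i.val]
  · rw [S.Q.K.cf_simple i i.isLt i i.isLt, if_pos rfl, zpow_one, dif_pos i.isLt]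
  · intro m hm hne
    rw [S.Q.K.cf_simple i i.isLt m (Finset.mem_range.1 hm), if_neg hne, zpow_zero]
  · intro h; exact absurd (Finset.mem_range.2 i.isLt) h

theorem charFn_neg_simple (c : Fin D.rank → Fˣ) (i : Fin D.rank) :
    S.charFn c (D.neg (D.simple i)) = (c i)⁻¹ := by
  rw [(S.charFn_isRootCharacter c).1 _ (S.simple_lt i), charFn_simple]

/-- The diagonal matrix with prescribed values on the fundamental roots. -/
def diagU (c : Fin D.rank → Fˣ) : GL D.Idx F :=
  Chevalley.dU (S.Q.K.chi F fun m => if h : m < D.rank then c ⟨m, h⟩ else 1)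

theorem coe_diagU (c : Fin D.rank → Fˣ) :
    (S.diagU c : Matrix D.Idx D.Idx F) = D.charDiag F (S.charFn c) := by
  rw [diagU, Chevalley.coe_dU, ChevalleyDatum.charDiag]
  congr 1
  funext x
  rcases x with a | r
  · simp [Chevalley.Cert.chi]
  · rfl

theorem coe_diagU_inv (c : Fin D.rank → Fˣ) :
    ((S.diagU c)⁻¹ : GL D.Idx F).val = D.charDiag F (fun r => (S.charFn c r)⁻¹) := by
  rw [diagU, Chevalley.dU_inv, Chevalley.coe_dU, ChevalleyDatum.charDiag]
  congr 1
  funext x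
  rcases x with a | r
  · simp [Chevalley.Cert.chi]
  · rfl

theorem diagU_conj (c : Fin D.rank → Fˣ) {r : ℕ} (hr : r < D.nroots) (t : F) :
    S.diagU c * S.Q.K.xU F r t * (S.diagU c)⁻¹ = S.Q.K.xU F r ((S.charFn c r : F) * t) :=
  S.Q.K.dU_conj_xU F hr (S.Q.K.scales_chi F _ hr) t

theorem map_group_diagU (c : Fin D.rank → Fˣ) :
    (D.group F).map (MulAut.conj (S.diagU c)).toMonoidHom = D.group F := by
  refine le_antisymm ?_ ?_
  · conv_lhs => rw [S.Q.K.group_eq, MonoidHom.map_closure]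
    refine (Subgroup.closure_le _).2 ?_
    rintro _ ⟨g, ⟨r, t, hr, rfl⟩, rfl⟩
    show S.diagU c * S.Q.K.xU F r t * (S.diagU c)⁻¹ ∈ D.group F
    rw [S.diagU_conj c hr]
    exact S.Q.K.xU_mem_group F _ _
  · conv_lhs => rw [S.Q.K.group_eq]
    refine (Subgroup.closure_le _).2 ?_
    rintro _ ⟨r, t, hr, rfl⟩
    refine ⟨S.Q.K.xU F r (((S.charFn c r)⁻¹ : Fˣ) * t), S.Q.K.xU_mem_group F _ _, ?_⟩
    show S.diagU c * S.Q.K.xU F r _ * (S.diagU c)⁻¹ = _
    rw [S.diagU_conj c hr, ← mul_assoc, Units.mul_inv, one_mul]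

/-- The diagonal automorphism with prescribed values on the fundamental roots. -/
def diagAut (c : Fin D.rank → Fˣ) : ↥(D.group F) ≃* ↥(D.group F) :=
  ((MulAut.conj (S.diagU c)).subgroupMap (D.group F)).trans
    (MulEquiv.subgroupCongr (S.map_group_diagU c))

theorem coe_diagAut (c : Fin D.rank → Fˣ) (g : ↥(D.group F)) :
    (S.diagAut c g : GL D.Idx F) = S.diagU c * g * (S.diagU c)⁻¹ := rfl

theorem diagAut_isDiagonal (c : Fin D.rank → Fˣ) : D.IsDiagonalAut (S.diagAut c) := by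
  refine ⟨S.charFn c, S.charFn_isRootCharacter c, fun g => ?_⟩
  rw [S.coe_diagAut, Units.val_mul, Units.val_mul, S.coe_diagU, S.coe_diagU_inv]

theorem diagAut_xs (c : Fin D.rank → Fˣ) (i : Fin D.rank) (t : F) :
    S.diagAut c (S.xs i t) = S.xs i ((c i : F) * t) := by
  refine Subtype.ext ?_
  rw [S.coe_diagAut]
  show S.diagU c * S.Q.K.xU F _ t * (S.diagU c)⁻¹ = _
  rw [S.diagU_conj c (S.simple_lt i), charFn_simple]
  rfl

theorem diagAut_ys (c : Fin D.rank → Fˣ) (i : Fin D.rank) (t : F) :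
    S.diagAut c (S.ys i t) = S.ys i (((c i)⁻¹ : Fˣ) * t) := by
  refine Subtype.ext ?_
  rw [S.coe_diagAut]
  show S.diagU c * S.Q.K.xU F _ t * (S.diagU c)⁻¹ = _
  rw [S.diagU_conj c (S.Q.K.neg_lt (S.simple_lt i)), charFn_neg_simple]
  rfl

end Cfsg.Agent.H56.ChevAut.Setup
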