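import Cfsg.Agent.H56.ChevAut.Rank1

/-!
The field automorphisms at the fundamental roots agree, up to the exponents of a graph automorphism.
-/
set_option autoImplicit false

namespace Cfsg.Agent.H56.ChevAut

open Cfsg.Lie Cfsg.Agent.H37 Cfsg.Agent.H37.RootSys

theorem bonds_comm (D : ChevalleyDatum) (i j : ℕ) : D.bonds i j = D.bonds j i := mul_comm _ _

/-- The exponents of a graph automorphism. -/
noncomputable def gexp (D : ChevalleyDatum) (F : Type*) [Field F] (σ : Equiv.Perm (Fin D.rank))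
    (i : Fin D.rank) : ℕ := D.graphExp (ringChar F) i (σ i)

namespace Setup

variable {D : ChevalleyDatum} {F : Type*} [Field F] (S : Setup D F)
include S

theorem edge_cases {i j : Fin D.rank} (hij : i ≠ j) :
    D.bonds i j = 0 ∨ edgeB D i j = true ∨ edgeB D j i = true := by
  have h := S.facts
  simp only [factsB, lenB, Bool.and_eq_true, List.all_eq_true, List.mem_range, Bool.or_eq_true,
    beq_iff_eq] at h
  rcases h.1.2 i i.isLt j j.isLt with ((h1 | h1) | h1) | h1
  · exact absurd (Fin.ext h1) hij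
  · exact Or.inl h1
  · exact Or.inr (Or.inl h1)
  · exact Or.inr (Or.inr h1)

theorem bonds_cases {i j : Fin D.rank} (hij : i ≠ j) :
    D.bonds i j = 0 ∨ D.bonds i j = 1 ∨ D.bonds i j = 2 ∨ D.bonds i j = 3 := by
  have hf := S.facts
  simp only [factsB, ordB, Bool.and_eq_true, List.all_eq_true, List.mem_range, Bool.or_eq_true,
    beq_iff_eq] at hf
  rcases hf.1.1.2 i (S.Q.rank_eq ▸ i.isLt) j (S.Q.rank_eq ▸ j.isLt) with h1 | ⟨⟨h1, -⟩, -⟩
  · exact absurd (Fin.ext h1) hij
  · rw [← h1, bondOf]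
    split_ifs <;> norm_num

/-- Nodes joined by no bond commute. -/
theorem sref_commute {i j : Fin D.rank} (hij : i ≠ j) (h0 : D.bonds i j = 0) :
    S.sref i * S.sref j = S.sref j * S.sref i := by
  have hf := S.facts
  simp only [factsB, ordB, Bool.and_eq_true, List.all_eq_true, List.mem_range, Bool.or_eq_true,
    beq_iff_eq, decide_eq_true_eq] at hf
  have hi : (i : ℕ) < S.Q.X.n := S.Q.rank_eq ▸ i.isLt
  have hj : (j : ℕ) < S.Q.X.n := S.Q.rank_eq ▸ j.isLt
  rcases hf.1.1.2 i hi j hj with h1 | ⟨⟨h1, h2⟩, -⟩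
  · exact absurd (Fin.ext h1) hij
  rw [h0, bondOf] at h1
  have hm : Weyl.Cert.mEntry S.Q.X.M i j = 2 := by
    simp only [List.mem_cons, List.not_mem_nil, or_false] at h2
    rcases h2 with h | h | h | h <;> simp [h] at h1
    exact h
  rw [Weyl.Cert.mEntry, dif_pos ⟨hi, hj⟩] at hm
  have := S.Q.X.M.toCoxeterSystem.simple_mul_simple_pow ⟨i, hi⟩ ⟨j, hj⟩
  rw [hm, sq] at this
  have e := eq_inv_of_mul_eq_one_left this
  rw [mul_inv_rev, S.Q.X.M.toCoxeterSystem.inv_simple, S.Q.X.M.toCoxeterSystem.inv_simple] at e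
  exact e

/-- The diagram is connected. -/
theorem eq_of_edges {α : Type*} (f : Fin D.rank → α)
    (h : ∀ i j : Fin D.rank, i ≠ j → D.bonds i j ≠ 0 → f i = f j) (i j : Fin D.rank) :
    f i = f j := by
  by_contra hne
  set J : Set S.Q.X.M.Group := S.sref '' {k | f k = f i}
  have hJ : J ⊆ Set.range S.Q.X.M.simple := by rintro _ ⟨k, -, rfl⟩; exact ⟨_, rfl⟩
  have h2 : (Set.range S.Q.X.M.simple \ J).Nonempty :=
    ⟨S.sref j, ⟨⟨_, rfl⟩, fun ⟨k, hk, e⟩ => hne (S.sref_inj e ▸ hk : f j = f i).symm⟩⟩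
  obtain ⟨_, ⟨a, ha, rfl⟩, t, ⟨ht, htJ⟩, hc⟩ := S.Q.X.irred J hJ ⟨S.sref i, i, rfl, rfl⟩ h2
  obtain ⟨k, rfl⟩ := ht
  set b : Fin D.rank := Fin.cast S.Q.rank_eq.symm k
  have hb : S.sref b = S.Q.X.M.simple k := rfl
  have hab : a ≠ b := fun e => htJ ⟨a, ha, by rw [e, hb]⟩
  refine htJ ⟨b, ?_, hb⟩
  rw [Set.mem_setOf_eq, ← h a b hab fun h0 => hc (by rw [← hb]; exact S.sref_commute hab h0)]
  exact ha

/-- The two elements of the triple-bond test, transported by an automorphism fixing parameters. -/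
theorem not_six {θ : ↥(D.group F) ≃* ↥(D.group F)} {σ : Equiv.Perm (Fin D.rank)}
    (htwo : ∀ t : F, t = 0 ∨ t = 1) (hθx : ∀ i, θ (S.xs i 1) = S.xs (σ i) 1)
    (hθn : ∀ i, θ (S.ns i) = S.ns (σ i)) {i j : Fin D.rank} (h1 : sixAt D i j = true)
    (h2 : sixAt D (σ j) (σ i) = true) : False := by
  have h20 : (2 : F) = 0 := by
    rcases htwo 2 with h | h
    · exact h
    · exact absurd (show (1 : F) = 0 by linear_combination h) one_ne_zero
  have hneg : (-1 : F) = 1 := by linear_combination (-h20)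
  have hw : ∀ {k : Fin D.rank} {r : ℕ}, r < D.nroots →
      S.ns k * xG S.Q.K F r 1 * (S.ns k)⁻¹ = xG S.Q.K F (D.reflectRoot k r) 1 := by
    intro k r hr
    refine Subtype.ext ?_
    rw [S.Q.K.w_reflect k k.isLt r hr]
    show S.Q.K.nS F k * S.Q.K.xU F r 1 * (S.Q.K.nS F k)⁻¹ = _
    rw [S.Q.K.nS_conj_xU F k.isLt hr, mul_one]
    rcases S.Q.K.sg_pm k r with h | h <;> simp [h, hneg]
  have hlt : ∀ {k : Fin D.rank} {r : ℕ}, r < D.nroots → D.reflectRoot k r < D.nroots := by
    intro k r hr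
    rw [S.Q.K.w_reflect k k.isLt r hr]
    exact (S.Q.K.w_lt k k.isLt r hr).1
  simp only [sixAt, Bool.and_eq_true, decide_eq_true_eq, List.isEmpty_iff] at h1 h2
  obtain ⟨⟨⟨⟨⟨hba, hba'⟩, -⟩, -⟩, hnil⟩, -⟩ := h1
  obtain ⟨⟨⟨⟨⟨-, -⟩, hdc⟩, hdc'⟩, -⟩, hone⟩ := h2
  set a := D.reflectRoot j (D.simple i)
  set b := D.reflectRoot i a
  set c := D.reflectRoot (σ j) (D.simple (σ i))
  set d := D.reflectRoot (σ i) c
  have ha : a < D.nroots := hlt (S.simple_lt i)
  have hb : b < D.nroots := hlt ha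
  have hc : c < D.nroots := hlt (S.simple_lt (σ i))
  have hd : d < D.nroots := hlt hc
  have ea : θ (xG S.Q.K F a 1) = xG S.Q.K F c 1 := by
    rw [← hw (k := j) (S.simple_lt i), ← hw (k := σ j) (S.simple_lt (σ i)), map_mul, map_mul,
      map_inv, hθn]
    exact congrArg (fun z => S.ns (σ j) * z * (S.ns (σ j))⁻¹) (hθx i)
  have eb : θ (xG S.Q.K F b 1) = xG S.Q.K F d 1 := by
    rw [← hw (k := i) ha, ← hw (k := σ i) hc, map_mul, map_mul, map_inv, hθn, ea]
  have hcomm : xG S.Q.K F b 1 * xG S.Q.K F a 1 = xG S.Q.K F a 1 * xG S.Q.K F b 1 := by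
    refine Subtype.ext ?_
    show S.Q.K.xU F b 1 * S.Q.K.xU F a 1 = S.Q.K.xU F a 1 * S.Q.K.xU F b 1
    rw [S.Q.K.xU_comm F ha hb hba hba', ChevalleyDatum.commWord, hnil, List.map_nil,
      S.Q.K.wU_nil, mul_one]
  have hcd := congrArg θ hcomm
  rw [map_mul, map_mul, ea, eb] at hcd
  have hcd' : S.Q.K.xU F d 1 * S.Q.K.xU F c 1 = S.Q.K.xU F c 1 * S.Q.K.xU F d 1 :=
    congrArg Subtype.val hcd
  rw [S.Q.K.xU_comm F hc hd hdc hdc', mul_eq_left, ChevalleyDatum.commWord] at hcd'
  generalize hL : D.commTerms c d = L at hone hcd'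
  match L with
  | [] => simp at hone
  | [e] =>
    simp only [Bool.and_eq_true, decide_eq_true_eq] at hone
    rw [List.map_singleton, S.Q.K.wU_cons, S.Q.K.wU_nil, mul_one, S.Q.K.xU_eq_one_iff F hone.1]
      at hcd'
    obtain ⟨k, hk⟩ : ∃ k, e.2.1 = 2 * k + 1 := ⟨e.2.1 / 2, by omega⟩
    rw [hk] at hcd'
    push_cast at hcd'
    simp [hneg, h20] at hcd'
  | _ :: _ :: _ => simp at hone

/-- A reversed multiple bond fixes the characteristic. -/
theorem reversed [Finite F] {θ : ↥(D.group F) ≃* ↥(D.group F)}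
    {σ : Equiv.Perm (Fin D.rank)} {a b : Fin D.rank → F → F} (hN : S.Normal θ σ a b)
    (hσ : D.IsDiagramSymmetry σ) {i j : Fin D.rank} (hij : i ≠ j) (hb0 : D.bonds i j ≠ 0)
    (h1 : D.bonds i j ≠ 1) (he0 : edgeB D i j = true) (he2 : edgeB D (σ j) (σ i) = true) :
    ∃ k : ℕ, k = ringChar F ∧ (ringChar F : ℤ) = D.bonds i j ∧ ∀ t, a j t = a i t ^ k := by
  haveI := Fintype.ofFinite F
  have hij' : σ i ≠ σ j := fun e => hij (σ.injective e)
  have hbσ := hσ i j hij
  have he := he0
  simp only [edgeB, Bool.and_eq_true, beq_iff_eq] at he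
  obtain ⟨⟨hA, -⟩, -⟩ := he
  have htor : ∀ t : F, t ≠ 0 →
      (a j t)⁻¹ = a i t ^ D.cartan (σ i) (D.simple (σ j)) := by
    intro t ht0
    have := hN.torus S i j ht0 1
    rw [hA, hN.one, mul_one, mul_one, zpow_neg_one, ← hN.fld_apply S j, map_inv₀] at this
    exact this
  have h := he2
  simp only [edgeB, Bool.and_eq_true, beq_iff_eq, bonds_comm D (σ j) (σ i)] at h
  obtain ⟨⟨-, hA'⟩, -⟩ := h
  obtain ⟨k, hk, hk0⟩ : ∃ k : ℕ, (k = 2 ∨ k = 3) ∧ D.bonds i j = k := by
    rcases S.bonds_cases hij with h | h | h | h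
    · exact absurd h hb0
    · exact absurd h h1
    · exact ⟨2, Or.inl rfl, h⟩
    · exact ⟨3, Or.inr rfl, h⟩
  rw [hbσ, hk0] at hA'
  have hpow : ∀ t, a j t = a i t ^ k := by
    intro t
    by_cases ht0 : t = 0
    · subst ht0
      rw [hN.zero S, hN.zero S, zero_pow (by omega)]
    · have := htor t ht0
      rw [hA', zpow_neg, zpow_natCast] at this
      exact inv_injective this
  have hadd : ∀ x y : F, (x + y) ^ k = x ^ k + y ^ k := by
    intro x y
    obtain ⟨x, rfl⟩ := (Finite.injective_iff_surjective.1 (hN.inj S i)) x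
    obtain ⟨y, rfl⟩ := (Finite.injective_iff_surjective.1 (hN.inj S i)) y
    rw [← hN.add S, ← hpow, ← hpow, ← hpow, hN.add S]
  have hkp : k = ringChar F := by
    rcases hk with rfl | rfl
    · have h2 : (2 : F) = 0 := by linear_combination hadd 1 1
      exact (CharP.ringChar_of_prime_eq_zero Nat.prime_two (by exact_mod_cast h2)).symm
    · have h6 : (2 : F) * 3 = 0 := by linear_combination hadd 1 1
      rcases mul_eq_zero.1 h6 with h2 | h3
      · exfalso
        have htwo : ∀ t : F, t = 0 ∨ t = 1 := by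
          intro t
          have h' : (3 : F) * (t * (t + 1)) = 0 := by linear_combination hadd t 1
          have h3' : (3 : F) ≠ 0 := fun e => one_ne_zero (show (1 : F) = 0 by
            linear_combination e - h2)
          rcases mul_eq_zero.1 ((mul_eq_zero.1 h').resolve_left h3') with h | h
          · exact Or.inl h
          · exact Or.inr (by linear_combination h - h2)
        have hb3 : D.bonds i j = 3 := by exact_mod_cast hk0
        have hb3' : D.bonds (σ j) (σ i) = 3 := by rw [bonds_comm, hbσ, hb3]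
        have hsix : ∀ x y : Fin D.rank, x ≠ y → D.bonds x y = 3 → edgeB D x y = true →
            sixAt D x y = true := by
          intro x y hxy hb he
          have hf := S.facts
          simp only [factsB, sixB, Bool.and_eq_true, List.all_eq_true, List.mem_range,
            Bool.or_eq_true, beq_iff_eq, Bool.not_eq_true', beq_eq_false_iff_ne] at hf
          rcases hf.2 x x.isLt y y.isLt with ((h | h) | h) | h
          · exact absurd (Fin.ext h) hxy
          · exact absurd hb h
          · rw [he] at h; exact absurd h (by decide)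
          · exact h
        refine S.not_six htwo (θ := θ) (σ := σ) (fun l => by rw [hN.hx, hN.one]) (fun l => ?_)
          (hsix i j hij hb3 he0) (hsix _ _ hij'.symm hb3' he2)
        rw [S.ns_word, map_mul, map_mul, hN.hx, hN.hy, hN.one, hN.neg_eq S, hN.neg S, hN.one,
          ← S.ns_word]
      · exact (CharP.ringChar_of_prime_eq_zero Nat.prime_three (by exact_mod_cast h3)).symm
  exact ⟨k, hkp, by rw [← hkp, hk0], hpow⟩

theorem exists_root_map [Finite F] {θ : ↥(D.group F) ≃* ↥(D.group F)}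
    {σ : Equiv.Perm (Fin D.rank)} {a b : Fin D.rank → F → F} (hN : S.Normal θ σ a b)
    (hσ : D.IsDiagramSymmetry σ) :
    ∃ f : F ≃+* F, ∀ i t, a i t = f t ^ gexp D F σ i ∧ b i t = f t ^ gexp D F σ i := by
  haveI := Fintype.ofFinite F
  set p := ringChar F with hp
  haveI : CharP F p := ringChar.charP F
  haveI : Fact p.Prime := ⟨CharP.char_is_prime F p⟩
  haveI : ExpChar F p := ExpChar.prime Fact.out
  have hfrob : Function.Bijective (fun x : F => x ^ p) :=
    Finite.injective_iff_bijective.1 (frobenius_inj F p)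
  set frob : F ≃+* F := RingEquiv.ofBijective (frobenius F p) hfrob
  set r : Fin D.rank → (F ≃+* F) := fun i =>
    if D.isLong (D.simple (σ i)) && !D.isLong (D.simple i) then (hN.fld S i).trans frob.symm
    else hN.fld S i with hr
  have hra : ∀ i t, a i t = r i t ^ gexp D F σ i := by
    intro i t
    simp only [hr, gexp, ChevalleyDatum.graphExp]
    split_ifs
    · exact (frob.apply_symm_apply (a i t)).symm
    · rw [pow_one]; rfl
  -- along an edge oriented from long to short
  have hedge : ∀ i j : Fin D.rank, i ≠ j → D.bonds i j ≠ 0 → edgeB D i j = true → r i = r j := by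
    intro i j hij hb0 he
    have hij' : σ i ≠ σ j := fun e => hij (σ.injective e)
    have hbσ := hσ i j hij
    have he0 := he
    simp only [edgeB, Bool.and_eq_true, beq_iff_eq] at he
    obtain ⟨⟨hA, -⟩, hlen⟩ := he
    have htor : ∀ t : F, t ≠ 0 →
        (a j t)⁻¹ = a i t ^ D.cartan (σ i) (D.simple (σ j)) := by
      intro t ht0
      have := hN.torus S i j ht0 1
      rw [hA, hN.one, mul_one, mul_one, zpow_neg_one, ← hN.fld_apply S j, map_inv₀] at this
      exact this
    have hsame : D.cartan (σ i) (D.simple (σ j)) = -1 → ∀ t, a i t = a j t := by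
      intro h t
      by_cases ht0 : t = 0
      · subst ht0; rw [hN.zero S, hN.zero S]
      · have := htor t ht0
        rw [h, zpow_neg_one] at this
        exact (inv_injective this).symm
    by_cases h1 : D.bonds i j = 1
    · -- a single bond
      rw [h1] at hbσ
      simp only [h1, if_true, beq_iff_eq] at hlen
      have hσlen : D.cartan (σ i) (D.simple (σ j)) = -1 ∧
          D.isLong (D.simple (σ i)) = D.isLong (D.simple (σ j)) := by
        rcases S.edge_cases hij' with h | h | h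
        · omega
        · simp only [edgeB, Bool.and_eq_true, beq_iff_eq, hbσ, if_true] at h
          exact ⟨h.1.1, h.2⟩
        · simp only [edgeB, Bool.and_eq_true, beq_iff_eq, bonds_comm D (σ j) (σ i), hbσ, if_true]
            at h
          exact ⟨h.1.2, h.2.symm⟩
      refine RingEquiv.ext fun t => ?_
      have e := hsame hσlen.1 t
      simp only [hr, hlen, hσlen.2]
      split_ifs
      · exact congrArg frob.symm e
      · exact e
    · simp only [h1, if_false, Bool.and_eq_true, Bool.not_eq_true', beq_iff_eq] at hlen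
      have hσ1 : ¬ D.bonds (σ i) (σ j) = 1 := hbσ ▸ h1
      rcases S.edge_cases hij' with h | h | h
      · rw [hbσ] at h; exact absurd h hb0
      · -- the bond keeps its orientation
        simp only [edgeB, Bool.and_eq_true, beq_iff_eq, hσ1, if_false, Bool.not_eq_true'] at h
        refine RingEquiv.ext fun t => ?_
        simp only [hr, hlen.1, hlen.2, h.2.1, h.2.2]
        exact hsame h.1.1 t
      · -- the bond is reversed
        have he2 := h
        simp only [edgeB, Bool.and_eq_true, beq_iff_eq, bonds_comm D (σ j) (σ i), hσ1, if_false,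
          Bool.not_eq_true'] at h
        obtain ⟨⟨-, hA'⟩, hl1, hl2⟩ := h
        obtain ⟨k, hkp, hpow⟩ : ∃ k : ℕ, k = p ∧ ∀ t, a j t = a i t ^ k := by
          obtain ⟨k, hk, hk0, h⟩ := S.reversed hN hσ hij hb0 h1 he0 he2
          exact ⟨k, hk, h⟩
        refine RingEquiv.ext fun t => ?_
        simp only [hr, hlen.1, hlen.2, hl1, hl2]
        show a i t = frob.symm (a j t)
        rw [hpow, hkp, eq_comm, RingEquiv.symm_apply_eq]
        rfl
  have hsame : ∀ i j : Fin D.rank, i ≠ j → D.bonds i j ≠ 0 → r i = r j := by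
    intro i j hij hb
    rcases S.edge_cases hij with h | h | h
    · exact absurd h hb
    · exact hedge i j hij hb h
    · exact (hedge j i hij.symm (bonds_comm D i j ▸ hb) h).symm
  refine ⟨r ⟨0, S.Q.ord.rank_pos⟩, fun i t => ?_⟩
  rw [hN.neg_eq S, hra i t, S.eq_of_edges r hsame i ⟨0, S.Q.ord.rank_pos⟩]
  exact ⟨rfl, rfl⟩

/-- An automorphism stabilising `U` and its opposite is determined by a symmetry, values of a
character on the fundamental roots and a field automorphism. -/
theorem exists_frame [Finite F] {θ : ↥(D.group F) ≃* ↥(D.group F)} (hU : Fix θ S.Q.amb.U)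
    (hV : Fix θ S.V) :
    ∃ (σ : Equiv.Perm (Fin D.rank)) (c : Fin D.rank → Fˣ) (f : F ≃+* F),
      (∀ i j : Fin D.rank, i ≠ j → D.bonds i j ≠ 0 → D.bonds i j ≠ 1 → edgeB D i j = true →
        edgeB D (σ j) (σ i) = true → (ringChar F : ℤ) = D.bonds i j) ∧
      D.IsDiagramSymmetry σ ∧ (∀ i, piFun S.Q.amb θ (S.sref i) = S.sref (σ i)) ∧
      (∀ i t, θ (S.xs i t) = S.xs (σ i) ((c (σ i) : F) * f t ^ gexp D F σ i)) ∧
      ∀ i t, θ (S.ys i t) = S.ys (σ i) (((c (σ i))⁻¹ : Fˣ) * f t ^ gexp D F σ i) := by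
  obtain ⟨σ, hσ, hπ, h⟩ := S.exists_symmetry hU hV
  choose a ha using fun i t => (h i t).1
  choose b hb using fun i t => (h i t).2
  have ha1 : ∀ i, a i 1 ≠ 0 := fun i e => one_ne_zero (S.xs_injective i (θ.injective
    (by rw [ha, e, S.xs_zero, S.xs_zero, map_one])))
  set c : Fin D.rank → Fˣ := fun k => Units.mk0 (a (σ.symm k) 1) (ha1 _) with hc
  have hN : S.Normal (θ.trans (S.diagAut c).symm) σ (fun i t => ((c (σ i))⁻¹ : Fˣ) * a i t)
      (fun i t => (c (σ i) : F) * b i t) := by
    refine ⟨fun i t => ?_, fun i t => ?_, fun i => ?_⟩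
    · rw [MulEquiv.trans_apply, MulEquiv.symm_apply_eq, diagAut_xs, ha, ← mul_assoc, Units.mul_inv,
        one_mul]
    · rw [MulEquiv.trans_apply, MulEquiv.symm_apply_eq, diagAut_ys, hb, ← mul_assoc, Units.inv_mul,
        one_mul]
    · simp [hc, Equiv.symm_apply_apply, ha1 i]
  obtain ⟨f, hf⟩ := S.exists_root_map hN hσ
  refine ⟨σ, c, f, fun i j h1 h2 h3 h4 h5 => ?_, hσ, hπ, fun i t => ?_, fun i t => ?_⟩
  · obtain ⟨-, -, h, -⟩ := S.reversed hN hσ h1 h2 h3 h4 h5
    exact h
  · rw [ha, ← (hf i t).1, ← mul_assoc, Units.mul_inv, one_mul]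
  · rw [hb, ← (hf i t).2, ← mul_assoc, Units.inv_mul, one_mul]

end Setup

end Cfsg.Agent.H56.ChevAut
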