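import Cfsg.Agent.H37.Sym.Basic
import Cfsg.Prelude.Def_ChevD4

/-! The graph symmetry of type D4 exchanging two outer nodes (tables as in `H37/Sym/Basic.lean`). -/
set_option autoImplicit false

namespace Cfsg.Agent.H56.ChevAut

/-- The tables of the symmetry. -/
def dataD4c : H37.Sym.Data where
  tau := [2, 1, 0, 3]
  tauInv := [2, 1, 0, 3]
  perm := [0, 1, 2, 6, 7, 10, 3, 4, 8, 9, 5, 11, 12, 18, 14, 15, 19, 20, 13, 16, 17, 21, 22, 23]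
  permInv := [0, 1, 2, 6, 7, 10, 3, 4, 8, 9, 5, 11, 12, 18, 14, 15, 19, 20, 13, 16, 17, 21, 22, 23]
  minus := [0, 0, 0, 1, 1, 0, 1, 1, 0, 0, 0, 0, 0, 0, 0, 0, 1, 1, 0, 1, 1, 0, 0, 0]

theorem goodD4c : H37.Sym.Good dataD4c Cfsg.Lie.chevD4 := ⟨by decide +kernel⟩

end Cfsg.Agent.H56.ChevAut
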