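import Cfsg.Agent.H56.ChevAut.Out
import Cfsg.Agent.H56.ChevAut.SymD4c
import Cfsg.Agent.H37.Sym.D4a
import Cfsg.Agent.H37.Sym.E6
import Cfsg.Agent.H37.Isog.G2
import Cfsg.Agent.H37.Isog.F4

/-!
Graph automorphisms and the image of the action on the diagram, per type.
-/
set_option autoImplicit false
set_option maxRecDepth 100000

namespace Cfsg.Agent.H56.ChevAut

open Cfsg.Lie Cfsg.Agent.H37 Cfsg.Agent.H37.RootSys

variable {D : ChevalleyDatum} {F : Type*} [Field F]

/-- A root map respects positivity and is given by `π` on the negatives of fundamental roots. -/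
def rootMapB (D : ChevalleyDatum) (ρ : ℕ → ℕ) (π : Fin D.rank → Fin D.rank) : Bool :=
  ((List.range D.nroots).all fun r => decide (ρ r < D.nroots) &&
    (decide (D.nroots / 2 ≤ ρ r) == decide (D.nroots / 2 ≤ r))) &&
  ((List.finRange D.rank).all fun i => ρ (D.neg (D.simple i)) == D.neg (D.simple (π i)))

namespace Setup

variable (S : Setup D F)
include S

theorem mem_range_of_rootMap [Finite F] (γ : MulAut ↥(D.group F)) (ρ : ℕ → ℕ) (g : ℕ → F → F)
    (π : Equiv.Perm (Fin D.rank)) (hb : rootMapB D ρ π = true)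
    (h : ∀ (x : ↥(D.group F)) (r : ℕ) (t : F), r < D.nroots →
      ((x : GL D.Idx F) : Matrix D.Idx D.Idx F) = D.x F r t →
      ((γ x : GL D.Idx F) : Matrix D.Idx D.Idx F) = D.x F (ρ r) (g r t)) :
    π ∈ S.symOut.range := by
  simp only [rootMapB, Bool.and_eq_true, List.all_eq_true, List.mem_range, List.mem_finRange,
    true_implies, beq_iff_eq, decide_eq_true_eq, decide_eq_decide] at hb
  obtain ⟨hb1, hb2⟩ := hb
  have hx : ∀ r, r < D.nroots → ∀ t,
      γ (xG S.Q.K F r t) = xG S.Q.K F (ρ r) (g r t) := fun r hr t =>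
    Subtype.ext (Units.ext (h (xG S.Q.K F r t) r t hr rfl))
  have hstd : S.Std γ := S.std_of_roots fun r hr t => ⟨_, _, (hb1 r hr).1, (hb1 r hr).2, hx r hr t⟩
  refine ⟨QuotientGroup.mk' _ γ, ?_⟩
  rw [symOut_mk]
  refine S.outSym_of_std hstd (S.hasSym_of_ys hstd fun i => ⟨g (D.neg (D.simple i)) 1, ?_⟩)
  show γ (xG S.Q.K F (D.neg (D.simple i)) 1) = xG S.Q.K F (D.neg (D.simple (π i))) _
  rw [hx _ (S.Q.K.neg_lt (S.simple_lt i)) 1, hb2 i]

theorem mem_range_of_sym [Finite F] {T : H37.Sym.Data} (hT : H37.Sym.Good T D)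
    (π : Equiv.Perm (Fin D.rank)) (hb : rootMapB D T.p π = true) : π ∈ S.symOut.range :=
  S.mem_range_of_rootMap (hT.groupEquiv S.Q.ord F) T.p (fun r t => (T.sg r : F) * t) π hb
    fun x _ t hr e => hT.groupEquiv_x S.Q.ord x hr t e

theorem mem_range_of_isog [Finite F] {T : H37.Isog.Data} (hT : H37.Isog.Good T D)
    [CharP F T.p] [Fact T.p.Prime] [IsSimpleGroup ↥(D.group F)]
    (π : Equiv.Perm (Fin D.rank)) (hb : rootMapB D T.rh π = true)
    (r : ℕ) (hr : r < D.nroots) (a b : Fin T.size) (ha : T.c1 a = D.rank + r)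
    (hbn : T.c1 b = D.rank + D.neg r) : π ∈ S.symOut.range := by
  have hne : hT.idealHom (F := F) S.Q.ord ≠ 1 := by
    intro e
    have e1 := congrArg (fun φ : ↥(D.group F) →* GL (Fin T.size) F =>
      ((φ ⟨xGL S.Q.ord r 1, xGL_mem_group S.Q.ord r 1⟩ : GL (Fin T.size) F) :
        Matrix (Fin T.size) (Fin T.size) F) a b) e
    have hab : a ≠ b := by
      intro h
      rw [h] at ha
      have := S.Q.K.neg_ne hr
      omega
    simp only [MonoidHom.one_apply, Units.val_one, Matrix.one_apply_ne hab] at e1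
    change D.x F r (1 : F) (hT.split (.inl a)) (hT.split (.inl b)) = 0 at e1
    have i1 : hT.split (.inl a) = Sum.inr ⟨r, hr⟩ := by
      have h := hT.split_inl a
      rw [ha] at h
      rcases hq : hT.split (.inl a) with i | s
      · rw [hq] at h; simp [Chevalley.idxNat] at h; omega
      · rw [hq] at h; simp [Chevalley.idxNat] at h
        exact congrArg Sum.inr (Fin.ext h)
    have i2 : hT.split (.inl b) = Sum.inr ⟨D.neg r, S.Q.K.neg_lt hr⟩ := by
      have h := hT.split_inl b
      rw [hbn] at h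
      rcases hq : hT.split (.inl b) with i | s
      · rw [hq] at h; simp [Chevalley.idxNat] at h; omega
      · rw [hq] at h; simp [Chevalley.idxNat] at h
        exact congrArg Sum.inr (Fin.ext h)
    rw [i1, i2, S.Q.K.x_eq hr] at e1
    have hne : ¬ r = D.neg r := (S.Q.K.neg_ne hr).symm
    have hnone : ∀ k, D.chainRoot r (D.neg r) k = none := fun k => by
      simp [ChevalleyDatum.chainRoot, (S.Q.K.rowOK hr).chain_neg]
    simp [Chevalley.xR, Chevalley.entUS, Finset.sum_range_succ, hne, hnone] at e1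
  have hinj : Function.Injective (hT.idealHom (F := F) S.Q.ord) := by
    rw [← MonoidHom.ker_eq_bot_iff]
    exact (MonoidHom.normal_ker _).eq_bot_or_eq_top.resolve_right
      fun h => hne (MonoidHom.ker_eq_top_iff.1 h)
  haveI : ExpChar F T.p := ExpChar.prime Fact.out
  have hperf : ∀ x : F, ∃ y, y ^ T.p = x :=
    Finite.injective_iff_surjective.1 (frobenius_inj F T.p)
  obtain ⟨α, hα⟩ := hT.exists_isogeny S.Q.ord Fact.out hinj hperf
  exact S.mem_range_of_rootMap α T.rh (fun r t => t ^ T.lm r) π hb hα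

/-- The symmetries are listed, so the image is no larger than the list. -/
theorem card_range_le [Finite F] {N : ℕ} (hN : (symsUpTo D D.rank).length ≤ N) :
    Nat.card S.symOut.range ≤ N := by
  classical
  refine le_trans ?_ (le_trans (symsUpTo D D.rank).toFinset_card_le hN)
  refine le_trans (le_of_le_of_eq (Nat.card_le_card_of_injective
    (fun x : ↥S.symOut.range => (⟨_, List.mem_toFinset.2 (mem_symsUpTo (π := x.1) ?_ D.rank le_rfl)⟩ :
      ↥(symsUpTo D D.rank).toFinset)) ?_) (Nat.card_eq_finsetCard _)) le_rfl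
  · obtain ⟨y, hy⟩ := x.2
    obtain ⟨θ, rfl⟩ := QuotientGroup.mk'_surjective _ y
    rw [← hy, symOut_mk]
    exact S.outSym_isDiagramSymmetry θ
  · intro x y e
    refine Subtype.ext (Equiv.ext fun i => Fin.ext ?_)
    have := List.map_inj_left.1 (congrArg Subtype.val e) i (List.mem_range.2 i.isLt)
    simpa [i.isLt] using this

theorem card_range_eq_one [Finite F] (h : (symsUpTo D D.rank).length ≤ 1) :
    Nat.card S.symOut.range = 1 :=
  le_antisymm (S.card_range_le h) Nat.card_pos

theorem card_range_eq_two [Finite F] (h : (symsUpTo D D.rank).length ≤ 2)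
    {π : Equiv.Perm (Fin D.rank)} (hπ : π ∈ S.symOut.range) (h1 : π ≠ 1) :
    Nat.card S.symOut.range = 2 := by
  refine le_antisymm (S.card_range_le h) ?_
  exact (Subgroup.one_lt_card_iff_ne_bot _).2 fun hb => h1 (by rw [hb, Subgroup.mem_bot] at hπ; exact hπ)

/-- No reversal of a multiple bond outside its characteristic. -/
theorem card_range_eq_one_of_char [Finite F] (i j : Fin D.rank) (hij : i ≠ j)
    (he : edgeB D i j = true) (h0 : D.bonds i j ≠ 0) (h1 : D.bonds i j ≠ 1)
    (hsyms : ∀ π : Equiv.Perm (Fin D.rank), D.IsDiagramSymmetry π → π = 1 ∨ π i = j ∧ π j = i)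
    (hp : (ringChar F : ℤ) ≠ D.bonds i j) : Nat.card S.symOut.range = 1 := by
  rw [Subgroup.card_eq_one, eq_bot_iff]
  rintro _ ⟨y, rfl⟩
  obtain ⟨θ, rfl⟩ := QuotientGroup.mk'_surjective _ y
  obtain ⟨a, hU, hV⟩ := S.exists_inner θ
  obtain ⟨σ, c, f, hrev, hσ, hπ, -, -⟩ := S.exists_frame hU hV
  rw [symOut_mk, S.outSym_eq ⟨hU, hV⟩ hπ, Subgroup.mem_bot]
  rcases hsyms σ hσ with h | ⟨hi, hj⟩
  · exact h
  · exact absurd (hrev i j hij h0 h1 he (by rw [hi, hj]; exact he)) hp

end Setup

end Cfsg.Agent.H56.ChevAut
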