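import Cfsg.Agent.H56.ChevAut.Std
import Cfsg.Agent.H56.OutPSL
import Cfsg.Agent.H51.Weights

/-!
The outer automorphism group: diagonal part, field part, the diagram part.
-/
set_option autoImplicit false

namespace Cfsg.Agent.H56.ChevAut.Setup

open Cfsg.Lie Cfsg.Agent.H37 Cfsg.Agent.H37.RootSys

variable {D : ChevalleyDatum} {F : Type*} [Field F] (S : Setup D F)
include S

/-- The diagonal automorphisms, from values on the fundamental roots. -/
noncomputable def diagHom : (Fin D.rank → Fˣ) →* MulAut ↥(D.group F) :=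
  MonoidHom.mk' S.diagAut fun c d => by
    refine S.aut_ext (fun i t => ?_) (fun i t => ?_)
    · rw [MulAut.mul_apply, S.diagAut_xs, S.diagAut_xs, S.diagAut_xs, Pi.mul_apply, Units.val_mul,
        mul_assoc]
    · rw [MulAut.mul_apply, S.diagAut_ys, S.diagAut_ys, S.diagAut_ys, Pi.mul_apply, mul_inv,
        Units.val_mul, mul_assoc]

theorem diagHom_apply (c : Fin D.rank → Fˣ) : S.diagHom c = S.diagAut c := rfl

/-- The field automorphism of the group attached to a field automorphism. -/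
noncomputable def fieldOf (f : RingAut F) : MulAut ↥(D.group F) :=
  (exists_field_aut S.Q.ord f).choose

theorem fieldOf_spec (f : RingAut F) : ∀ (g : ↥(D.group F)) (r : ℕ) (t : F), r < D.nroots →
    ((g : GL D.Idx F) : Matrix D.Idx D.Idx F) = D.x F r t →
      ((S.fieldOf f g : GL D.Idx F) : Matrix D.Idx D.Idx F) = D.x F r (f t) :=
  (exists_field_aut S.Q.ord f).choose_spec

theorem fieldOf_xG (f : RingAut F) {r : ℕ} (hr : r < D.nroots) (t : F) :
    S.fieldOf f (xG S.Q.K F r t) = xG S.Q.K F r (f t) :=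
  Subtype.ext (Units.ext (S.fieldOf_spec f _ r t hr rfl))

theorem fieldOf_xs (f : RingAut F) (i : Fin D.rank) (t : F) :
    S.fieldOf f (S.xs i t) = S.xs i (f t) ∧ S.fieldOf f (S.ys i t) = S.ys i (f t) :=
  S.fieldAut_xs (S.fieldOf_spec f) i t

/-- The field automorphisms. -/
noncomputable def fieldHom : RingAut F →* MulAut ↥(D.group F) :=
  MonoidHom.mk' S.fieldOf fun f g => by
    refine S.aut_ext (fun i t => ?_) (fun i t => ?_)
    · rw [MulAut.mul_apply, (S.fieldOf_xs g i t).1, (S.fieldOf_xs f i _).1,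
        (S.fieldOf_xs (f * g) i t).1]
      rfl
    · rw [MulAut.mul_apply, (S.fieldOf_xs g i t).2, (S.fieldOf_xs f i _).2,
        (S.fieldOf_xs (f * g) i t).2]
      rfl

theorem fieldHom_apply (f : RingAut F) : S.fieldHom f = S.fieldOf f := rfl

theorem isFieldAut_iff {φ : MulAut ↥(D.group F)} :
    D.IsFieldAut φ ↔ φ ∈ S.fieldHom.range := by
  constructor
  · rintro ⟨f, hf⟩
    refine ⟨f, S.aut_ext (fun i t => ?_) (fun i t => ?_)⟩
    · rw [fieldHom_apply, (S.fieldOf_xs f i t).1, (S.fieldAut_xs hf i t).1]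
    · rw [fieldHom_apply, (S.fieldOf_xs f i t).2, (S.fieldAut_xs hf i t).2]
  · rintro ⟨f, rfl⟩
    exact ⟨f, S.fieldOf_spec f⟩

theorem isDiagonalAut_iff (hW : H51.WeightOK D) {φ : MulAut ↥(D.group F)} :
    D.IsDiagonalAut φ ↔ φ ∈ S.diagHom.range := by
  constructor
  · rintro ⟨χ, hχ, hφ⟩
    refine ⟨fun i => χ (D.simple i), S.aut_ext (fun i t => ?_) (fun i t => ?_)⟩
    · rw [diagHom_apply, S.diagAut_xs]
      refine (S.eq_xs ((hφ (S.xs i t)).trans ?_)).symm
      exact H51.charDiag_mul_x_mul hW hχ (S.simple_lt i) t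
    · rw [diagHom_apply, S.diagAut_ys]
      refine (S.eq_ys ((hφ (S.ys i t)).trans ?_)).symm
      rw [← hχ.1 _ (S.simple_lt i)]
      exact H51.charDiag_mul_x_mul hW hχ (S.Q.K.neg_lt (S.simple_lt i)) t
  · rintro ⟨c, rfl⟩
    exact S.diagAut_isDiagonal c

theorem closure_diag (hW : H51.WeightOK D) :
    Subgroup.closure {φ : MulAut ↥(D.group F) | D.IsDiagonalAut φ} = S.diagHom.range := by
  rw [show {φ : MulAut ↥(D.group F) | D.IsDiagonalAut φ} = (S.diagHom.range : Set _) from
    Set.ext fun φ => S.isDiagonalAut_iff hW, Subgroup.closure_eq]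

theorem closure_field :
    Subgroup.closure {φ : MulAut ↥(D.group F) | D.IsFieldAut φ} = S.fieldHom.range := by
  rw [show {φ : MulAut ↥(D.group F) | D.IsFieldAut φ} = (S.fieldHom.range : Set _) from
    Set.ext fun φ => S.isFieldAut_iff, Subgroup.closure_eq]

/-- Diagonal classes of outer automorphisms. -/
noncomputable def diagOut : (Fin D.rank → Fˣ) →* Cfsg.Out ↥(D.group F) :=
  (QuotientGroup.mk' _).comp S.diagHom

/-- Field classes of outer automorphisms. -/
noncomputable def fieldOut : RingAut F →* Cfsg.Out ↥(D.group F) :=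
  (QuotientGroup.mk' _).comp S.fieldHom

theorem diag_std [Finite F] (c : Fin D.rank → Fˣ) : S.Std (S.diagHom c) :=
  S.std_of_roots fun r hr t => ⟨r, (S.charFn c r : F) * t, hr, Iff.rfl,
    Subtype.ext (by
      rw [diagHom_apply, coe_diagAut, RootSys.coe_xG, RootSys.coe_xG, S.diagU_conj c hr])⟩

theorem field_std [Finite F] (f : RingAut F) : S.Std (S.fieldHom f) :=
  S.std_of_roots fun r hr t => ⟨r, f t, hr, Iff.rfl, S.fieldOf_xG f hr t⟩

theorem mk_conj_mul (a : ↥(D.group F)) (θ : MulAut ↥(D.group F)) :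
    QuotientGroup.mk' (Cfsg.Inn ↥(D.group F)) (θ.trans (MulAut.conj a)) =
      QuotientGroup.mk' (Cfsg.Inn ↥(D.group F)) θ := by
  rw [show θ.trans (MulAut.conj a) = MulAut.conj a * θ from rfl, map_mul,
    (QuotientGroup.eq_one_iff _).2 (⟨a, rfl⟩ : MulAut.conj a ∈ Cfsg.Inn ↥(D.group F))
      |> fun h => (show QuotientGroup.mk' (Cfsg.Inn ↥(D.group F)) (MulAut.conj a) = 1 from h),
    one_mul]

theorem symOut_mk [Finite F] (θ : MulAut ↥(D.group F)) :
    S.symOut (QuotientGroup.mk' _ θ) = S.outSym θ := rfl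

theorem gexp_one (i : Fin D.rank) : gexp D F 1 i = 1 := by
  simp [gexp, ChevalleyDatum.graphExp]

/-- The kernel of the action on the diagram. -/
theorem ker_symOut [Finite F] : S.symOut.ker = S.diagOut.range ⊔ S.fieldOut.range := by
  refine le_antisymm ?_ (sup_le ?_ ?_)
  · intro x hx
    obtain ⟨θ, rfl⟩ := QuotientGroup.mk'_surjective _ x
    rw [MonoidHom.mem_ker, symOut_mk] at hx
    obtain ⟨a, hU, hV⟩ := S.exists_inner θ
    obtain ⟨σ, c, f, -, -, hπ, hfx, hfy⟩ := S.exists_frame hU hV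
    rw [S.outSym_eq ⟨hU, hV⟩ hπ] at hx
    subst hx
    have e : θ.trans (MulAut.conj a) = S.diagHom c * S.fieldHom f := by
      refine S.aut_ext (fun i t => ?_) (fun i t => ?_)
      · rw [MulAut.mul_apply, fieldHom_apply, (S.fieldOf_xs f i t).1, diagHom_apply, diagAut_xs,
          hfx, gexp_one S, pow_one, Equiv.Perm.one_apply]
      · rw [MulAut.mul_apply, fieldHom_apply, (S.fieldOf_xs f i t).2, diagHom_apply, diagAut_ys,
          hfy, gexp_one S, pow_one, Equiv.Perm.one_apply]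
    rw [← S.mk_conj_mul a θ, e, map_mul]
    exact mul_mem (Subgroup.mem_sup_left ⟨c, rfl⟩) (Subgroup.mem_sup_right ⟨f, rfl⟩)
  · rintro _ ⟨c, rfl⟩
    refine S.outSym_of_std (S.diag_std c) (S.hasSym_of_ys (S.diag_std c) fun i => ?_)
    exact ⟨_, S.diagAut_ys c i 1⟩
  · rintro _ ⟨f, rfl⟩
    refine S.outSym_of_std (S.field_std f) (S.hasSym_of_ys (S.field_std f) fun i => ?_)
    exact ⟨_, (S.fieldOf_xs f i 1).2⟩

theorem normal_diagOut [Finite F] : S.diagOut.range.Normal := by
  refine ⟨fun d hd x => ?_⟩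
  obtain ⟨c', rfl⟩ := hd
  obtain ⟨θ, rfl⟩ := QuotientGroup.mk'_surjective _ x
  obtain ⟨a, hU, hV⟩ := S.exists_inner θ
  obtain ⟨σ, c, f, -, -, -, hfx, hfy⟩ := S.exists_frame hU hV
  set c'' : Fin D.rank → Fˣ := fun k =>
    Units.map (f : F →+* F).toMonoidHom (c' (σ.symm k)) ^ gexp D F σ (σ.symm k)
  have e : θ.trans (MulAut.conj a) * S.diagHom c' = S.diagHom c'' * θ.trans (MulAut.conj a) := by
    refine S.aut_ext (fun i t => ?_) (fun i t => ?_)
    · rw [MulAut.mul_apply, MulAut.mul_apply, diagHom_apply, diagHom_apply, diagAut_xs, hfx, hfx,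
        diagAut_xs, map_mul, mul_pow]
      simp only [c'', Equiv.symm_apply_apply, Units.val_pow_eq_pow_val, Units.coe_map]
      congr 1
      simp only [RingHom.toMonoidHom_eq_coe, MonoidHom.coe_coe, RingHom.coe_coe]
      ring
    · rw [MulAut.mul_apply, MulAut.mul_apply, diagHom_apply, diagHom_apply, diagAut_ys, hfy, hfy,
        diagAut_ys, map_mul, mul_pow]
      simp only [c'', Equiv.symm_apply_apply, Units.val_pow_eq_pow_val, Units.coe_map,
        Units.val_inv_eq_inv_val, map_inv₀, inv_pow]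
      congr 1
      simp only [RingHom.toMonoidHom_eq_coe, MonoidHom.coe_coe, RingHom.coe_coe]
      ring
  refine ⟨c'', ?_⟩
  rw [← S.mk_conj_mul a θ]
  simp only [diagOut, MonoidHom.comp_apply]
  rw [eq_mul_inv_iff_mul_eq, ← map_mul, ← map_mul, e]

/-- The elements of `H` act as diagonal automorphisms. -/
theorem conj_H {h : ↥(D.group F)} (hh : h ∈ S.Q.amb.H) :
    MulAut.conj h ∈ S.diagHom.range := by
  have hh' : (h : GL D.Idx F) ∈ D.diagonalSubgroup F := hh
  have hle : D.diagonalSubgroup F ≤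
      ((S.diagHom.range.comap (MulAut.conj : ↥(D.group F) →* MulAut ↥(D.group F))).map
        (D.group F).subtype) := by
    refine (Subgroup.closure_le _).2 ?_
    rintro g ⟨r, t, hr, ht0, hg⟩
    obtain rfl : g = S.Q.K.hU F r t := Units.ext (hg.trans (S.Q.K.coe_hU F r t).symm)
    set u : Fˣ := Units.mk0 t ht0
    have hmem : S.Q.K.hU F r t ∈ D.group F :=
      diagonal_le_group S.Q.ord (Chevalley.Cert.hU_mem S.Q.K F hr ht0)
    refine ⟨⟨_, hmem⟩, ⟨fun j => u ^ Chevalley.pairingSum D r (D.simple j), ?_⟩, rfl⟩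
    have hneg : ∀ j : Fin D.rank, Chevalley.pairingSum D r (D.neg (D.simple j)) =
        -Chevalley.pairingSum D r (D.simple j) := by
      intro j
      simp only [Chevalley.pairingSum, ← Finset.sum_neg_distrib]
      refine Finset.sum_congr rfl fun m hm => ?_
      have hm' := Finset.mem_range.1 hm
      rw [← mul_neg]
      congr 1
      rw [S.Q.K.cartan_lin m hm' _ (S.Q.K.neg_lt (S.simple_lt j)),
        S.Q.K.cartan_lin m hm' _ (S.simple_lt j), Chevalley.list_sum_range_map,
        Chevalley.list_sum_range_map, ← Finset.sum_neg_distrib]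
      refine Finset.sum_congr rfl fun k hk => ?_
      rw [S.Q.K.cf_neg _ (S.simple_lt j) k (Finset.mem_range.1 hk), neg_mul]
    refine S.aut_ext (fun j s => ?_) (fun j s => ?_)
    · rw [diagHom_apply, diagAut_xs]
      refine Subtype.ext ?_
      exact (S.Q.K.hU_conj_xU F hr (S.simple_lt j) u s).symm
    · rw [diagHom_apply, diagAut_ys, ← zpow_neg, ← hneg]
      refine Subtype.ext ?_
      exact (S.Q.K.hU_conj_xU F hr (S.Q.K.neg_lt (S.simple_lt j)) u s).symm
  obtain ⟨h', hh'', e⟩ := hle hh'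
  rwa [← Subtype.ext (a1 := h') (a2 := h) e]

theorem diagHom_injective : Function.Injective S.diagHom := fun c d e => by
  funext i
  have := congrArg (fun φ : MulAut ↥(D.group F) => φ (S.xs i 1)) e
  simp only [diagHom_apply, diagAut_xs, mul_one] at this
  exact Units.ext (S.xs_injective i this)

theorem conj_H_injective {h : ↥(D.group F)} (hh : h ∈ S.Q.amb.H)
    (e : (MulAut.conj h : MulAut ↥(D.group F)) = 1) : h = 1 := by
  refine Subtype.ext (S.Q.faithful (show (h : GL D.Idx F) ∈ D.diagonalSubgroup F from hh)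
    fun r _ _ => ?_)
  have := congrArg (fun φ : MulAut ↥(D.group F) => φ (xG S.Q.K F r 1)) e
  simp only [MulAut.conj_apply, MulAut.one_apply, mul_inv_eq_iff_eq_mul] at this
  exact congrArg Subtype.val this

theorem card_diagOut [Finite F] :
    Nat.card S.diagOut.range * Nat.card (D.diagonalSubgroup F) = (Nat.card F - 1) ^ D.rank := by
  have h1 : Nat.card S.diagOut.ker = Nat.card S.Q.amb.H := by
    choose f hf using fun h : ↥S.Q.amb.H => S.conj_H h.2
    refine (Nat.card_eq_of_bijective (fun h : ↥S.Q.amb.H => (⟨f h, ?_⟩ : ↥S.diagOut.ker))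
      ⟨fun a b e => ?_, fun c => ?_⟩).symm
    · rw [MonoidHom.mem_ker]
      show QuotientGroup.mk' _ (S.diagHom (f h)) = 1
      rw [hf h]
      exact (QuotientGroup.eq_one_iff _).2 ⟨_, rfl⟩
    · have e1 : MulAut.conj (a : ↥(D.group F)) = MulAut.conj (b : ↥(D.group F)) := by
        rw [← hf a, ← hf b]
        exact congrArg (fun z => S.diagHom z) (congrArg Subtype.val e : f a = f b)
      refine Subtype.ext (mul_inv_eq_one.1 (S.conj_H_injective (mul_mem a.2 (inv_mem b.2)) ?_))
      rw [map_mul, map_inv, e1, mul_inv_cancel]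
    · have hc : QuotientGroup.mk' _ (S.diagHom c.1) = 1 := c.2
      obtain ⟨x, hx⟩ := (QuotientGroup.eq_one_iff _).1 hc
      have hxH : x ∈ S.Q.amb.H := S.conj_std_mem_H (hx ▸ S.diag_std c.1)
      exact ⟨⟨x, hxH⟩, Subtype.ext (S.diagHom_injective ((hf _).trans hx))⟩
  have h2 := S.diagOut.ker.card_mul_index
  rw [Subgroup.index_ker, h1, S.Q.card_H, mul_comm, Nat.card_fun, Nat.card_units,
    Nat.card_eq_fintype_card (α := Fin D.rank), Fintype.card_fin] at h2
  exact h2

theorem field_eq_diag [Finite F] {f : RingAut F} {c : Fin D.rank → Fˣ}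
    (h : S.fieldOut f = S.diagOut c) : f = 1 := by
  simp only [fieldOut, diagOut, MonoidHom.comp_apply, QuotientGroup.mk'_eq_mk'] at h
  obtain ⟨z, ⟨x, rfl⟩, hx⟩ := h
  have hx' : MulAut.conj x = (S.fieldHom f)⁻¹ * S.diagHom c := by rw [← hx, inv_mul_cancel_left]
  have hstd : S.Std (MulAut.conj x) := by
    rw [hx']
    exact ⟨(S.diag_std c).1.trans (S.field_std f).1.symm, (S.diag_std c).2.trans (S.field_std f).2.symm⟩
  obtain ⟨d, hd⟩ := S.conj_H (S.conj_std_mem_H hstd)
  have hf : S.fieldHom f = S.diagHom (c * d⁻¹) := by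
    rw [map_mul, map_inv, hd, hx']
    group
  refine RingEquiv.ext fun t => ?_
  have e : ∀ t, f t = ((c * d⁻¹) ⟨0, S.Q.ord.rank_pos⟩ : Fˣ) * t := fun t => by
    have := congrArg (fun φ : MulAut ↥(D.group F) => φ (S.xs ⟨0, S.Q.ord.rank_pos⟩ t)) hf
    simp only [fieldHom_apply, (S.fieldOf_xs f _ t).1, diagHom_apply, diagAut_xs] at this
    exact S.xs_injective _ this
  have h1 := e 1
  rw [map_one, mul_one] at h1
  rw [e t, ← h1, one_mul]
  rfl

theorem fieldOut_injective [Finite F] : Function.Injective S.fieldOut :=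
  (injective_iff_map_eq_one _).2 fun _ h => S.field_eq_diag (c := 1) (h.trans (map_one _).symm)

theorem card_fieldOut [Finite F] : Nat.card S.fieldOut.range = Nat.card (RingAut F) :=
  (Nat.card_congr (Equiv.ofInjective _ S.fieldOut_injective)).symm

theorem card_ker [Finite F] :
    Nat.card S.symOut.ker = Nat.card S.diagOut.range * Nat.card (RingAut F) := by
  haveI := S.normal_diagOut
  rw [← S.card_fieldOut, ← Nat.card_prod, S.ker_symOut]
  refine (Nat.card_eq_of_bijective (fun z : ↥S.diagOut.range × ↥S.fieldOut.range =>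
    (⟨z.1.1 * z.2.1, mul_mem (Subgroup.mem_sup_left z.1.2) (Subgroup.mem_sup_right z.2.2)⟩ :
      ↥(S.diagOut.range ⊔ S.fieldOut.range))) ⟨?_, ?_⟩).symm
  · rintro ⟨⟨a, ha⟩, ⟨b, hb⟩⟩ ⟨⟨a', ha'⟩, ⟨b', hb'⟩⟩ e
    have e' : a * b = a' * b' := congrArg Subtype.val e
    have hmem : b' * b⁻¹ ∈ S.diagOut.range := by
      rw [show b' * b⁻¹ = a'⁻¹ * a by
        rw [eq_inv_mul_iff_mul_eq, ← mul_assoc, ← e', mul_inv_cancel_right]]
      exact mul_mem (inv_mem ha') ha
    obtain ⟨c, hc⟩ := hmem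
    obtain ⟨g, hg⟩ := mul_mem hb' (inv_mem hb)
    have := S.field_eq_diag (hg.trans hc.symm)
    rw [this, map_one, eq_comm, mul_inv_eq_one] at hg
    subst hg
    obtain rfl := mul_right_cancel e'
    rfl
  · rintro ⟨x, hx⟩
    rw [← SetLike.mem_coe, Subgroup.normal_mul, Set.mem_mul] at hx
    obtain ⟨a, ha, b, hb, rfl⟩ := hx
    exact ⟨⟨⟨a, ha⟩, ⟨b, hb⟩⟩, rfl⟩

theorem card_out [Finite F] : Nat.card (Cfsg.Out ↥(D.group F)) =
    Nat.card S.symOut.range * (Nat.card S.diagOut.range * Nat.card (RingAut F)) := by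
  rw [← S.card_ker, ← Subgroup.card_mul_index S.symOut.ker, Subgroup.index_ker, mul_comm]

end Cfsg.Agent.H56.ChevAut.Setup
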