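import Cfsg.Agent.H56.ChevAut.Diag

/-!
Parameters of an automorphism preserving the fundamental root subgroups: each is a field
automorphism, and the same one on the negative root.
-/
set_option autoImplicit false

namespace Cfsg.Agent.H56.ChevAut

open Cfsg.Lie Cfsg.Agent.H37 Cfsg.Agent.H37.RootSys

/-- A bijective additive map of a field with `a(t²u) = a(t)²a(u)` and `a 1 = 1` is multiplicative
(finite fields). -/
theorem mult_of_squares {F : Type*} [Field F] [Finite F] {a : F → F}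
    (hadd : ∀ t u, a (t + u) = a t + a u) (h1 : a 1 = 1)
    (hsq : ∀ t u, a (t ^ 2 * u) = a t ^ 2 * a u) (t u : F) : a (t * u) = a t * a u := by
  by_cases h2 : (2 : F) = 0
  · haveI := Fintype.ofFinite F
    have hc : ringChar F = 2 :=
      CharP.ringChar_of_prime_eq_zero Nat.prime_two (by exact_mod_cast h2)
    obtain ⟨s, rfl⟩ := FiniteField.isSquare_of_char_two hc t
    have e : a (s * s) = a s ^ 2 := by
      have := hsq s 1
      rwa [mul_one, h1, mul_one, sq] at this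
    rw [e, ← sq, hsq]
  · have h := hsq (t + 1) u
    rw [hadd, h1, show (t + 1) ^ 2 * u = t ^ 2 * u + (t * u + t * u) + u by ring, hadd, hadd, hadd,
      hsq] at h
    have : (2 : F) * (a (t * u) - a t * a u) = 0 := by linear_combination h
    exact sub_eq_zero.1 ((mul_eq_zero.1 this).resolve_left h2)

namespace Setup

variable {D : ChevalleyDatum} {F : Type*} [Field F] (S : Setup D F)
include S

/-- `n_i(t)`. -/
def nt (i : Fin D.rank) (t : F) : ↥(D.group F) := S.xs i t * S.ys i (-t⁻¹) * S.xs i t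

/-- `h_i(t)`. -/
def ht (i : Fin D.rank) (t : F) : ↥(D.group F) := S.nt i t * S.nt i (-1)

theorem coe_nt (i : Fin D.rank) (t : F) :
    (S.nt i t : GL D.Idx F) = S.Q.K.nU F (D.simple i) t := (S.Q.K.nU_eq F _ t).symm

theorem coe_ht (i : Fin D.rank) (t : F) :
    (S.ht i t : GL D.Idx F) = S.Q.K.hU F (D.simple i) t := by
  rw [ht, Subgroup.coe_mul, coe_nt, coe_nt, S.Q.K.hU_eq]

theorem ht_mem_H (i : Fin D.rank) {t : F} (ht0 : t ≠ 0) : S.ht i t ∈ S.Q.amb.H := by
  show (S.ht i t : GL D.Idx F) ∈ D.diagonalSubgroup F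
  rw [S.coe_ht]
  exact hU_mem S.Q.K (S.simple_lt i) ht0

theorem ht_conj_xs (i j : Fin D.rank) (c : Fˣ) (t : F) :
    S.ht i c * S.xs j t * (S.ht i c)⁻¹ =
      S.xs j (((c ^ D.cartan i (D.simple j) : Fˣ) : F) * t) := by
  refine Subtype.ext ?_
  rw [Subgroup.coe_mul, Subgroup.coe_mul, Subgroup.coe_inv, S.coe_ht]
  have := S.Q.K.hU_conj_xU F (S.simple_lt i) (S.simple_lt j) c t
  rwa [S.Q.K.pairing_simple i.isLt] at this

theorem nt_conj_xs (i : Fin D.rank) {t : F} (ht0 : t ≠ 0) (s : F) :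
    ∃ s', S.nt i t * S.xs i s * (S.nt i t)⁻¹ = S.ys i s' := by
  obtain ⟨d, ed⟩ := S.ns_conj_xs i s
  obtain ⟨d', ed'⟩ := S.conj_H_ys (S.ht_mem_H i ht0) i d
  refine ⟨d', ?_⟩
  have e : S.nt i t = S.ht i t * S.ns i := by
    refine Subtype.ext ?_
    rw [Subgroup.coe_mul, S.coe_nt, S.coe_ht]
    exact nU_eq_hU_nS S.Q.K t
  rw [e, ← ed', ← ed]
  group

/-- `c = -t⁻¹` is the only parameter for which `x(t) x_{-}(c) x(t)` carries `X` to `X_-`. -/
theorem nt_unique [Finite F] (i : Fin D.rank) {t : F} (ht0 : t ≠ 0) {c : F}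
    (h : ∀ s, ∃ s', S.xs i t * S.ys i c * S.xs i t * S.xs i s *
      (S.xs i t * S.ys i c * S.xs i t)⁻¹ = S.ys i s') : c = -t⁻¹ := by
  have inner : ∀ (c s : F), S.xs i t * S.ys i c * S.xs i t * S.xs i s *
      (S.xs i t * S.ys i c * S.xs i t)⁻¹
        = S.xs i t * (S.ys i c * S.xs i s * (S.ys i c)⁻¹) * (S.xs i t)⁻¹ := by
    intro c s
    have : S.xs i t * S.xs i s * (S.xs i t)⁻¹ = S.xs i s := by
      rw [xs_inv, xs_add, xs_add, add_neg_cancel_comm]
    conv_rhs => rw [← this]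
    group
  obtain ⟨f, hf⟩ : ∃ f : F → F, ∀ s, S.xs i t *
      (S.ys i (-t⁻¹) * S.xs i s * (S.ys i (-t⁻¹))⁻¹) * (S.xs i t)⁻¹ = S.ys i (f s) := by
    have hn : ∀ s, ∃ s', S.xs i t *
        (S.ys i (-t⁻¹) * S.xs i s * (S.ys i (-t⁻¹))⁻¹) * (S.xs i t)⁻¹ = S.ys i s' := fun s => by
      obtain ⟨s', e⟩ := S.nt_conj_xs i ht0 s
      exact ⟨s', by rw [← inner]; exact e⟩
    choose f hf using hn
    exact ⟨f, hf⟩
  have hfinj : Function.Injective f := fun s s' e => by
    have h1 := (hf s).trans (e ▸ (hf s').symm)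
    exact S.xs_injective i (mul_left_cancel (mul_right_cancel (mul_left_cancel (mul_right_cancel h1))))
  have hfsurj := Finite.injective_iff_surjective.1 hfinj
  set d := c + t⁻¹ with hd
  by_contra hne
  have hd0 : d ≠ 0 := fun e => hne (eq_neg_of_add_eq_zero_left e)
  -- `x_{-}(d)` normalises `X`
  obtain ⟨s', es'⟩ := h 1
  rw [inner] at es'
  obtain ⟨s2, rfl⟩ := hfsurj s'
  rw [← hf s2] at es'
  have hd' : S.ys i d * S.xs i 1 * (S.ys i d)⁻¹ = S.xs i s2 := by
    have h1 := mul_left_cancel (mul_right_cancel es')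
    have ed : S.ys i d = (S.ys i (-t⁻¹))⁻¹ * S.ys i c := by
      rw [ys_inv, ys_add, hd]; congr 1; ring
    rw [ed]
    calc (S.ys i (-t⁻¹))⁻¹ * S.ys i c * S.xs i 1 * ((S.ys i (-t⁻¹))⁻¹ * S.ys i c)⁻¹
        = (S.ys i (-t⁻¹))⁻¹ * (S.ys i c * S.xs i 1 * (S.ys i c)⁻¹) * S.ys i (-t⁻¹) := by group
      _ = _ := by rw [h1]; group
  obtain ⟨a, b, k, hk, e⟩ := S.sl2 i hd0
  obtain ⟨y, ey⟩ := S.ns_conj_xs i 1
  obtain ⟨y', ey'⟩ := S.conj_H_ys hk i y
  have hb : S.xs i b * S.xs i 1 * (S.xs i b)⁻¹ = S.xs i 1 := by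
    rw [xs_inv, xs_add, xs_add, add_neg_cancel_comm]
  have h2 : S.xs i a * S.ys i y' * (S.xs i a)⁻¹ = S.xs i s2 := by
    rw [← hd', e, ← ey', ← ey]
    conv_lhs => rw [← hb]
    group
  have h3 : S.ys i y' = S.xs i s2 := by
    have : S.ys i y' = (S.xs i a)⁻¹ * S.xs i s2 * S.xs i a := by rw [← h2]; group
    rw [this, xs_inv, xs_add, xs_add]
    congr 1
    ring
  have h4 : S.ys i y' = 1 :=
    U_inter_V S.Q.amb S.opp (h3 ▸ S.xs_mem_U i s2) (S.ys_mem_V i y')
  have h5 : S.xs i 1 = 1 := by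
    rw [h4] at ey'
    rw [conj_eq_one_iff] at ey'
    rw [ey'] at ey
    exact conj_eq_one_iff.1 ey
  exact one_ne_zero (S.xs_injective i (h5.trans (S.xs_zero i).symm))

/-- An automorphism permuting the fundamental root subgroups and their negatives by `σ`, with
parameters `a` on the positive ones, normalised at `1`. -/
structure Normal (θ : ↥(D.group F) ≃* ↥(D.group F)) (σ : Equiv.Perm (Fin D.rank))
    (a b : Fin D.rank → F → F) : Prop where
  hx : ∀ i t, θ (S.xs i t) = S.xs (σ i) (a i t)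
  hy : ∀ i t, θ (S.ys i t) = S.ys (σ i) (b i t)
  one : ∀ i, a i 1 = 1

variable {θ : ↥(D.group F) ≃* ↥(D.group F)} {σ : Equiv.Perm (Fin D.rank)} {a b : Fin D.rank → F → F}

theorem Normal.add (hN : S.Normal θ σ a b) (i : Fin D.rank) (t u : F) :
    a i (t + u) = a i t + a i u := by
  refine S.xs_injective (σ i) ?_
  rw [← hN.hx, ← S.xs_add, map_mul, hN.hx, hN.hx, S.xs_add]

theorem Normal.inj (hN : S.Normal θ σ a b) (i : Fin D.rank) : Function.Injective (a i) :=
  fun t u h => S.xs_injective i (θ.injective (by rw [hN.hx, hN.hx, h]))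

theorem Normal.neg (hN : S.Normal θ σ a b) (i : Fin D.rank) (t : F) : a i (-t) = -a i t :=
  map_neg (AddMonoidHom.mk' (a i) (hN.add S i)) t

theorem Normal.zero (hN : S.Normal θ σ a b) (i : Fin D.rank) : a i 0 = 0 :=
  map_zero (AddMonoidHom.mk' (a i) (hN.add S i))

theorem Normal.ne_zero (hN : S.Normal θ σ a b) (i : Fin D.rank) {t : F} (ht0 : t ≠ 0) :
    a i t ≠ 0 := fun e => ht0 (hN.inj S i (e.trans (hN.zero S i).symm))

theorem Normal.hnt [Finite F] (hN : S.Normal θ σ a b) (i : Fin D.rank) {t : F} (ht0 : t ≠ 0) :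
    b i (-t⁻¹) = -(a i t)⁻¹ ∧ θ (S.nt i t) = S.nt (σ i) (a i t) := by
  have himg : θ (S.nt i t) = S.xs (σ i) (a i t) * S.ys (σ i) (b i (-t⁻¹)) * S.xs (σ i) (a i t) := by
    rw [nt, map_mul, map_mul, hN.hx, hN.hy]
  have hb : b i (-t⁻¹) = -(a i t)⁻¹ := by
    refine S.nt_unique (σ i) (hN.ne_zero S i ht0) fun s => ?_
    obtain ⟨s₀, rfl⟩ := (Finite.injective_iff_surjective.1 (hN.inj S i)) s
    obtain ⟨s', e⟩ := S.nt_conj_xs i ht0 s₀
    refine ⟨b i s', ?_⟩
    rw [← himg, ← hN.hy, ← hN.hx, ← e, map_mul, map_mul, map_inv]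
  exact ⟨hb, by rw [himg, hb, nt]⟩

theorem Normal.hb [Finite F] (hN : S.Normal θ σ a b) (i : Fin D.rank) {t : F} (ht0 : t ≠ 0) :
    b i t = (a i t⁻¹)⁻¹ := by
  have h := (hN.hnt S i (t := -t⁻¹) (by simp [ht0])).1
  rw [inv_neg, inv_inv, _root_.neg_neg, hN.neg S, inv_neg, _root_.neg_neg] at h
  exact h

theorem Normal.hht [Finite F] (hN : S.Normal θ σ a b) (i : Fin D.rank) {t : F} (ht0 : t ≠ 0) :
    θ (S.ht i t) = S.ht (σ i) (a i t) := by
  rw [ht, map_mul, (hN.hnt S i ht0).2, (hN.hnt S i (neg_ne_zero.2 one_ne_zero)).2, hN.neg S,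
    hN.one, ht]

/-- The action of the torus, transported. -/
theorem Normal.torus [Finite F] (hN : S.Normal θ σ a b) (i j : Fin D.rank) {t : F} (ht0 : t ≠ 0)
    (u : F) : a j (t ^ D.cartan i (D.simple j) * u) =
      a i t ^ D.cartan (σ i) (D.simple (σ j)) * a j u := by
  have h1 := congrArg θ (S.ht_conj_xs i j (Units.mk0 t ht0) u)
  rw [map_mul, map_mul, map_inv, Units.val_mk0, hN.hht S i ht0, hN.hx, hN.hx] at h1
  have h2 := S.ht_conj_xs (σ i) (σ j) (Units.mk0 _ (hN.ne_zero S i ht0)) (a j u)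
  simp only [Units.val_mk0, Units.val_zpow_eq_zpow_val] at h1 h2
  exact (S.xs_injective (σ j) (h2.symm.trans h1)).symm

theorem Normal.mul [Finite F] (hN : S.Normal θ σ a b) (i : Fin D.rank) (t u : F) :
    a i (t * u) = a i t * a i u := by
  refine mult_of_squares (hN.add S i) (hN.one i) (fun t u => ?_) t u
  by_cases ht0 : t = 0
  · subst ht0; simp [hN.zero S]
  have := hN.torus S i i ht0 u
  rwa [S.Q.K.cartan_self i i.isLt, S.Q.K.cartan_self _ (σ i).isLt, zpow_ofNat, zpow_ofNat] at this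

/-- The field automorphism at a fundamental root. -/
noncomputable def Normal.fld [Finite F] (hN : S.Normal θ σ a b) (i : Fin D.rank) : F ≃+* F :=
  RingEquiv.ofBijective
    ({ toFun := a i, map_one' := hN.one i, map_mul' := hN.mul S i, map_zero' := hN.zero S i,
       map_add' := hN.add S i } : F →+* F) (Finite.injective_iff_bijective.1 (hN.inj S i))

theorem Normal.fld_apply [Finite F] (hN : S.Normal θ σ a b) (i : Fin D.rank) (t : F) :
    hN.fld S i t = a i t := rfl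

theorem Normal.neg_eq [Finite F] (hN : S.Normal θ σ a b) (i : Fin D.rank) (t : F) :
    b i t = a i t := by
  by_cases ht0 : t = 0
  · subst ht0
    refine (S.ys_injective (σ i) ?_).trans (hN.zero S i).symm
    rw [← hN.hy, S.ys_zero, map_one, S.ys_zero]
  · rw [hN.hb S i ht0, ← hN.fld_apply S, map_inv₀, inv_inv, hN.fld_apply S]

end Setup

end Cfsg.Agent.H56.ChevAut
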