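import Cfsg.Agent.H56.ChevAut.Decomp
import Cfsg.Prelude.Def_KGroupFacts

/-!
The action of the automorphism group on the Dynkin diagram, and automorphisms permuting the root
subgroups.
-/
set_option autoImplicit false

namespace Cfsg.Agent.H56.ChevAut.Setup

open Cfsg.Lie Cfsg.Agent.H37 Cfsg.Agent.H37.RootSys

variable {D : ChevalleyDatum} {F : Type*} [Field F] (S : Setup D F)
include S

theorem V_eq : S.V = XS (xG S.Q.K F) (↑(negSet D) : Set ℕ) := by
  refine le_antisymm ?_ (XS_le fun r hr t => S.xG_mem_V (mem_negSet.1 hr).1 (mem_negSet.1 hr).2 t)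
  rintro _ ⟨u, hu, rfl⟩
  exact S.Q.sys.flip_conj S.Q.X.w0 (v := u) (S.Q.Uw_w0.symm ▸ hu : u ∈ S.Q.amb.Uw S.Q.X.w0)

theorem U_eq : S.Q.amb.U = XS (xG S.Q.K F) (↑(posSet D) : Set ℕ) := rfl

/-- An automorphism stabilises `U` and its opposite. -/
def Std (θ : MulAut ↥(D.group F)) : Prop := Fix θ S.Q.amb.U ∧ Fix θ S.V

theorem fix_of_le [Finite F] {θ : MulAut ↥(D.group F)} {K : Subgroup ↥(D.group F)}
    (h : ∀ x ∈ K, θ x ∈ K) : Fix θ K := by
  have hmap : K.map θ.toMonoidHom = K := by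
    refine Subgroup.eq_of_le_of_card_ge (fun _ ⟨x, hx, e⟩ => e ▸ h x hx) ?_
    exact (Nat.card_congr (Subgroup.equivMapOfInjective K θ.toMonoidHom θ.injective).toEquiv).le
  intro x
  conv_lhs => rw [← hmap, Subgroup.mem_map_equiv, MulEquiv.symm_apply_apply]

/-- An automorphism permuting the root subgroups and respecting positivity stabilises `U` and its
opposite. -/
theorem std_of_roots [Finite F] {θ : MulAut ↥(D.group F)}
    (h : ∀ r, r < D.nroots → ∀ t : F, ∃ r' t', r' < D.nroots ∧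
      (D.nroots / 2 ≤ r' ↔ D.nroots / 2 ≤ r) ∧ θ (xG S.Q.K F r t) = xG S.Q.K F r' t') :
    S.Std θ := by
  constructor
  · refine S.fix_of_le fun x hx => ?_
    have : S.Q.amb.U ≤ S.Q.amb.U.comap θ.toMonoidHom := by
      conv_lhs => rw [S.U_eq]
      refine XS_le fun r hr t => ?_
      obtain ⟨h1, h2⟩ := mem_posSet.1 hr
      obtain ⟨r', t', h3, h4, e⟩ := h r h1 t
      show θ (xG S.Q.K F r t) ∈ S.Q.amb.U
      rw [e]
      exact S.Q.sys.x_mem_U h3 (h4.2 h2) t'
    exact this hx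
  · refine S.fix_of_le fun x hx => ?_
    have : S.V ≤ S.V.comap θ.toMonoidHom := by
      conv_lhs => rw [S.V_eq]
      refine XS_le fun r hr t => ?_
      obtain ⟨h1, h2⟩ := mem_negSet.1 hr
      obtain ⟨r', t', h3, h4, e⟩ := h r h1 t
      show θ (xG S.Q.K F r t) ∈ S.V
      rw [e]
      refine S.xG_mem_V h3 ?_ t'
      have : ¬ D.nroots / 2 ≤ r' := fun hh => by have := h4.1 hh; omega
      omega
    exact this hx

/-- `σ` is the permutation of the fundamental reflections induced by `θ`. -/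
def HasSym (θ : MulAut ↥(D.group F)) (σ : Equiv.Perm (Fin D.rank)) : Prop :=
  ∀ i, piFun S.Q.amb θ (S.sref i) = S.sref (σ i)

theorem hasSym_of_ys {θ : MulAut ↥(D.group F)} (hθ : S.Std θ) {σ : Equiv.Perm (Fin D.rank)}
    (h : ∀ i, ∃ b, θ (S.ys i 1) = S.ys (σ i) b) : S.HasSym θ σ := by
  intro i
  have hcell : ∀ j b, b ≠ 0 → S.ys j b ∈ Cell S.Q.amb (S.sref j) := by
    intro j b hb
    rcases S.ys_mem_min j b with h1 | h1
    · exact absurd (S.ys_injective j ((S.opp.V_inter_B (S.ys_mem_V j b) h1).trans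
        (S.ys_zero j).symm)) hb
    · exact h1
  obtain ⟨b, e⟩ := h i
  have hb : b ≠ 0 := fun hb => one_ne_zero (S.ys_injective i (θ.injective
    (by rw [e, hb, S.ys_zero, S.ys_zero, map_one])))
  exact pi_eq _ (fix_B _ hθ.1) (hcell i 1 one_ne_zero) (e ▸ hcell (σ i) b hb)

theorem hasSym_unique {θ : MulAut ↥(D.group F)} {σ τ : Equiv.Perm (Fin D.rank)}
    (h : S.HasSym θ σ) (h' : S.HasSym θ τ) : σ = τ :=
  Equiv.ext fun i => S.sref_inj ((h i).symm.trans (h' i))

theorem exists_std [Finite F] (θ : MulAut ↥(D.group F)) :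
    ∃ a σ, S.Std (θ.trans (MulAut.conj a)) ∧ S.HasSym (θ.trans (MulAut.conj a)) σ ∧
      D.IsDiagramSymmetry σ := by
  obtain ⟨a, hU, hV⟩ := S.exists_inner θ
  obtain ⟨σ, hσ, hπ, -⟩ := S.exists_symmetry hU hV
  exact ⟨a, σ, ⟨hU, hV⟩, hπ, hσ⟩

/-- The diagram symmetry of an automorphism. -/
noncomputable def outSym [Finite F] (θ : MulAut ↥(D.group F)) : Equiv.Perm (Fin D.rank) :=
  (S.exists_std θ).choose_spec.choose

theorem outSym_isDiagramSymmetry [Finite F] (θ : MulAut ↥(D.group F)) :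
    D.IsDiagramSymmetry (S.outSym θ) := (S.exists_std θ).choose_spec.choose_spec.2.2

theorem conj_std_mem_H {x : ↥(D.group F)} (h : S.Std (MulAut.conj x)) : x ∈ S.Q.amb.H :=
  mem_H_of_fix S.Q.amb S.opp h.1 h.2

theorem outSym_eq [Finite F] {θ : MulAut ↥(D.group F)} {a : ↥(D.group F)}
    {σ : Equiv.Perm (Fin D.rank)} (hstd : S.Std (θ.trans (MulAut.conj a)))
    (hσ : S.HasSym (θ.trans (MulAut.conj a)) σ) : S.outSym θ = σ := by
  obtain ⟨hstd', hσ', -⟩ := (S.exists_std θ).choose_spec.choose_spec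
  set a' := (S.exists_std θ).choose
  refine S.hasSym_unique hσ' fun i => ?_
  have hx : a' * a⁻¹ ∈ S.Q.amb.H := by
    refine S.conj_std_mem_H ?_
    have e : MulAut.conj (a' * a⁻¹)
        = (θ.trans (MulAut.conj a)).symm.trans (θ.trans (MulAut.conj a')) := by
      refine MulEquiv.ext fun y => ?_
      obtain ⟨y, rfl⟩ := (θ.trans (MulAut.conj a)).surjective y
      rw [MulEquiv.trans_apply (θ.trans (MulAut.conj a)).symm (θ.trans (MulAut.conj a')),
        MulEquiv.symm_apply_apply]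
      simp only [MulEquiv.trans_apply, MulAut.conj_apply]
      group
    rw [e]
    exact ⟨hstd.1.symm.trans hstd'.1, hstd.2.symm.trans hstd'.2⟩
  refine pi_eq _ (fix_B _ hstd'.1) (n_mem_Cell _ (S.sref i)) ?_
  have hc := pi_cell _ (fix_B _ hstd.1) (n_mem_Cell S.Q.amb (S.sref i))
  rw [hσ i] at hc
  have hxB := S.Q.amb.H_le_B hx
  have := mul_mem_Cell _ hxB hc (inv_mem hxB)
  convert this using 1
  simp only [MulEquiv.trans_apply, MulAut.conj_apply]
  group

theorem outSym_mul [Finite F] (θ η : MulAut ↥(D.group F)) :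
    S.outSym (θ * η) = S.outSym θ * S.outSym η := by
  obtain ⟨a, σ, hP, hPσ, -⟩ := S.exists_std θ
  obtain ⟨b, τ, hQ, hQτ, -⟩ := S.exists_std η
  rw [S.outSym_eq hP hPσ, S.outSym_eq hQ hQτ]
  have e : (θ * η).trans (MulAut.conj (a * θ b))
      = (η.trans (MulAut.conj b)).trans (θ.trans (MulAut.conj a)) := by
    refine MulEquiv.ext fun y => ?_
    simp only [MulEquiv.trans_apply, MulAut.mul_apply, MulAut.conj_apply, map_mul, map_inv,
      mul_inv_rev, mul_assoc]
  refine S.outSym_eq (a := a * θ b) (e ▸ ⟨hQ.1.trans hP.1, hQ.2.trans hP.2⟩) ?_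
  rw [e]
  intro i
  refine pi_eq _ (fix_B _ (hQ.1.trans hP.1)) (n_mem_Cell _ (S.sref i)) ?_
  have h1 := pi_cell _ (fix_B _ hQ.1) (n_mem_Cell S.Q.amb (S.sref i))
  rw [hQτ i] at h1
  have h2 := pi_cell _ (fix_B _ hP.1) h1
  rw [hPσ (τ i)] at h2
  exact h2

/-- The action of the automorphism group on the diagram. -/
noncomputable def symHom [Finite F] : MulAut ↥(D.group F) →* Equiv.Perm (Fin D.rank) :=
  MonoidHom.mk' S.outSym S.outSym_mul

theorem outSym_of_std [Finite F] {θ : MulAut ↥(D.group F)} (hstd : S.Std θ)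
    {σ : Equiv.Perm (Fin D.rank)} (hσ : S.HasSym θ σ) : S.outSym θ = σ := by
  have e : θ.trans (MulAut.conj 1) = θ := MulEquiv.ext fun y => by simp
  exact S.outSym_eq (a := 1) (by rwa [e]) (by rwa [e])

theorem inn_le_ker [Finite F] : Cfsg.Inn ↥(D.group F) ≤ S.symHom.ker := by
  rintro _ ⟨x, rfl⟩
  have e : (MulAut.conj x : MulAut ↥(D.group F)).trans (MulAut.conj x⁻¹)
      = (1 : MulAut ↥(D.group F)) := MulEquiv.ext fun y => by
    simp [mul_assoc]
  rw [MonoidHom.mem_ker]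
  refine S.outSym_eq (a := x⁻¹) (e ▸ ⟨fun _ => Iff.rfl, fun _ => Iff.rfl⟩) ?_
  rw [e]
  exact S.hasSym_of_ys ⟨fun _ => Iff.rfl, fun _ => Iff.rfl⟩ fun i => ⟨1, rfl⟩

/-- The action of the outer automorphism group on the diagram. -/
noncomputable def symOut [Finite F] : Cfsg.Out ↥(D.group F) →* Equiv.Perm (Fin D.rank) :=
  QuotientGroup.lift _ S.symHom S.inn_le_ker

end Cfsg.Agent.H56.ChevAut.Setup
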